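import Groth.Agent.PRed.K541.DvrCpl
import Groth.Agent.SGA1.K150.CplAlgClosed
import Mathlib.RingTheory.Henselian

/-!
# Complete discrete valuation rings with algebraically closed residue field over a given one

with the same uniformizer, faithfully flat.
-/

set_option autoImplicit false
set_option linter.style.haveILetI false

open IsLocalRing

namespace K749.CplDvr

open K541.DvrQuot K541.DvrCpl

universe u

theorem exists_dvr {R : Type u} [CommRing R] [IsDomain R] [IsDiscreteValuationRing R] {t : R} (htirr : Irreducible t) :
    ∃ (C : Type u) (_ : CommRing C) (_ : IsDomain C) (_ : IsDiscreteValuationRing C) (_ : Algebra R C),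
      Module.FaithfullyFlat R C ∧ IsAdicComplete (maximalIdeal C) C ∧ IsAlgClosed (ResidueField C) ∧
        Irreducible (algebraMap R C t) := by
  have htm : maximalIdeal R = Ideal.span {t} := htirr.maximalIdeal_eq
  let K := AlgebraicClosure (ResidueField R)
  obtain ⟨B, _, _, hBnoeth, hBloc, hlh, hflat, e, he⟩ := Groth.Agent.S2363.result (A := R) K
  have hmaxB : (maximalIdeal R).map (algebraMap R B) = maximalIdeal B := by
    have h1 : ((maximalIdeal R).map (algebraMap R B)).IsMaximal :=
      Ideal.Quotient.maximal_of_isField _ (e.toMulEquiv.isField (Field.toIsField K))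
    exact IsLocalRing.eq_maximalIdeal h1
  let tB : B := algebraMap R B t
  have htB : maximalIdeal B = Ideal.span {tB} := by
    rw [← hmaxB, htm, Ideal.map_span, Set.image_singleton]
  haveI hffB : Module.FaithfullyFlat R B := Module.FaithfullyFlat.of_flat_of_isLocalHom
  have hinjB : Function.Injective (algebraMap R B) := FaithfulSMul.algebraMap_injective R B
  -- the completion
  let C := AdicCompletion (maximalIdeal B) B
  have hinjC : Function.Injective (algebraMap B C) := by
    have := AdicCompletion.of_injective (maximalIdeal B) B
    exact this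
  let φ : R →+* C := (algebraMap B C).comp (algebraMap R B)
  have hφinj : Function.Injective φ := hinjC.comp hinjB
  let tC : C := algebraMap B C tB
  have htC : maximalIdeal C = Ideal.span {tC} := by
    rw [AdicCompletion.maximalIdeal_eq_map]
    apply le_antisymm
    · rw [Ideal.map_le_iff_le_comap]
      intro x hx
      rw [htB, Ideal.mem_span_singleton] at hx
      rw [Ideal.mem_comap, Ideal.mem_span_singleton]
      exact map_dvd _ hx
    · rw [Ideal.span_singleton_le_iff_mem]
      exact Ideal.mem_map_of_mem _ (by rw [htB]; exact Ideal.mem_span_singleton_self _)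
  have hnil : ∀ n, tC ^ n ≠ 0 := by
    intro n hn
    have h1 : φ (t ^ n) = 0 := by rw [map_pow]; exact hn
    rw [map_eq_zero_iff φ hφinj] at h1
    exact pow_ne_zero n htirr.ne_zero h1
  obtain ⟨hdom, hdvr⟩ := isDiscreteValuationRing_of_sep tC htC hnil (sep_eq_bot C)
  -- the residue fields
  let eB : ResidueField B ≃+* K := (Ideal.quotEquivOfEq hmaxB.symm).trans e
  let eC : ResidueField B ≃+* ResidueField C :=
    RingEquiv.ofBijective _ (AdicCompletion.residueField_map_bijective B)
  have hsepC : IsAlgClosed (ResidueField C) := IsAlgClosed.of_ringEquiv K _ (eB.symm.trans eC)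
  haveI h3 := K150.CplAlgClosed.faithfullyFlat_completion B
  refine ⟨C, inferInstance, hdom, hdvr, inferInstance, Module.FaithfullyFlat.trans R B C, inferInstance, hsepC, ?_⟩
  rw [IsScalarTower.algebraMap_apply R B C]
  exact (IsDiscreteValuationRing.irreducible_iff_uniformizer _).2 htC

end K749.CplDvr
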