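import Groth.Agent.ThetaS.K942.TorsGeom
import Groth.Agent.ThetaS.K942.EqGeom
import Groth.Agent.NonAbH1.K554.Fpqc2
import Mathlib.AlgebraicGeometry.QuasiAffine
import Mathlib.AlgebraicGeometry.Morphisms.LocalFlatDescent

/-!
# Torsors extend over a flat covering where they become trivial

`V ⟶ T` an open part of an affine scheme with the same functions (also after flat affine base change); a torsor over `V`
under an affine flat finitely presented group which has a section over the part of a faithfully flat affine `T' ⟶ T` above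
`V` extends to `T`.
-/

set_option autoImplicit false
set_option linter.dupNamespace false
set_option linter.style.haveILetI false
set_option backward.isDefEq.respectTransparency false
set_option backward.isDefEq.respectTransparency.types false

universe u

open CategoryTheory CategoryTheory.Limits MonoidalCategory CartesianMonoidalCategory MonObj GrpObj
  AlgebraicGeometry TopologicalSpace Opposite

namespace K749.ExtTors

open ThetaS K943.LocPair K943.QuotAtlas K942.TorsGeom K942.EqGeom

variable {S : Scheme.{u}}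

section Aff

variable {P T : Over S} [IsAffine T.left] (f : P ⟶ T)

/-- The spectrum of the functions of `P`, over the affine scheme `T`. -/
noncomputable def aff : Over S := Over.mk ((Spec.map f.left.appTop ≫ T.left.isoSpec.inv) ≫ T.hom)

instance : IsAffine (aff f).left := inferInstanceAs (IsAffine (Spec Γ(P.left, ⊤)))

/-- Its projection. -/
noncomputable def pr : aff f ⟶ T := Over.homMk (Spec.map f.left.appTop ≫ T.left.isoSpec.inv) rfl

theorem toSpecΓ_pr : P.left.toSpecΓ ≫ Spec.map f.left.appTop ≫ T.left.isoSpec.inv = f.left := by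
  rw [← Scheme.toSpecΓ_naturality_assoc]
  have : T.left.toSpecΓ ≫ T.left.isoSpec.inv = 𝟙 _ := T.left.isoSpec.hom_inv_id
  rw [this, Category.comp_id]

/-- The canonical map. -/
noncomputable def kap : P ⟶ aff f := Over.homMk P.left.toSpecΓ (by
  change P.left.toSpecΓ ≫ (Spec.map f.left.appTop ≫ T.left.isoSpec.inv) ≫ T.hom = _
  rw [← Category.assoc, toSpecΓ_pr, Over.w])

theorem kap_pr : kap f ≫ pr f = f := by
  apply Over.OverMorphism.ext
  exact toSpecΓ_pr f

instance : IsIso (kap f).left.appTop := by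
  change IsIso P.left.toSpecΓ.appTop
  rw [Scheme.toSpecΓ_appTop]
  infer_instance

end Aff

theorem isPullback_kap {P V T : Over S} [IsAffine T.left] (π : P ⟶ V) [IsAffineHom π.left] (i : V ⟶ T)
    [IsOpenImmersion i.left] [QuasiCompact i.left] [IsIso i.left.appTop] :
    IsPullback (kap (π ≫ i)) π (pr (π ≫ i)) i := by
  apply IsPullback.of_map (Over.forget S) (kap_pr _)
  change IsPullback P.left.toSpecΓ π.left (Spec.map (π ≫ i).left.appTop ≫ T.left.isoSpec.inv) i.left
  haveI : CompactSpace V.left := QuasiCompact.compactSpace_of_compactSpace i.left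
  haveI : V.left.IsQuasiAffine := Scheme.IsQuasiAffine.of_isImmersion i.left
  have h1 := isPullback_comp_mono (Spec.map i.left.appTop ≫ T.left.isoSpec.inv)
    (Scheme.isPullback_toSpecΓ_toSpecΓ π.left)
  rw [toSpecΓ_pr i] at h1
  have e1 : Spec.map π.left.appTop ≫ Spec.map i.left.appTop = Spec.map (π ≫ i).left.appTop := by
    rw [← Spec.map_comp, ← Scheme.Hom.comp_appTop]; rfl
  rw [← Category.assoc, e1] at h1
  exact h1.flip

theorem isIso_of_appTop {X Y : Over S} [IsAffine X.left] [IsAffine Y.left] (f : X ⟶ Y) [IsIso f.left.appTop] :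
    IsIso f := by
  haveI : IsIso f.left := by
    have h1 := Scheme.toSpecΓ_naturality f.left
    haveI : IsIso (f.left ≫ Y.left.toSpecΓ) := by rw [h1]; infer_instance
    exact IsIso.of_isIso_comp_right f.left Y.left.toSpecΓ
  haveI : IsIso ((Over.forget S).map f) := this
  exact isIso_of_reflects_iso f (Over.forget S)

section Uniq

variable {V T : Over S} {i : V ⟶ T} [IsAffine T.left]

theorem isIso_of_flatExt (hi : FlatExt i) : IsIso i.left.appTop :=
  hi i (𝟙 V) (𝟙 T) (IsPullback.of_vert_isIso ⟨by simp⟩) (by change Flat (𝟙 T.left); infer_instance) inferInstance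

omit [IsAffine T.left] in
/-- Maps over `T` from a flat affine scheme to an affine one are determined over `V`. -/
theorem hom_unique (hi : FlatExt i) {Z' Z P : Over S} {k : Z' ⟶ Z} {p' : Z' ⟶ V} {q : Z ⟶ T}
    (h : IsPullback k p' q i) [Flat q.left] [IsAffine Z.left] {p : P ⟶ T} [IsAffineHom p.left] {a b : Z ⟶ P}
    (ha : a ≫ p = b ≫ p) (hk : k ≫ a = k ≫ b) : a = b := by
  haveI := hi k p' q h inferInstance inferInstance
  obtain ⟨w, -, hw⟩ := ext_over k p (b ≫ p) (k ≫ b) (Category.assoc _ _ _)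
  rw [hw a ⟨hk, ha⟩, hw b ⟨rfl, rfl⟩]

end Uniq

section snd

variable (A Q : Over S)

theorem isPb : IsPullback (fst A Q).left (snd A Q).left A.hom Q.hom := by
  have h := (AlgSt.isPullback_fst_snd A Q).map (Over.forget S)
  have h1 : (toUnit A).left = A.hom := by simp
  have h2 : (toUnit Q).left = Q.hom := by simp
  have h' : IsPullback (fst A Q).left (snd A Q).left (toUnit A).left (toUnit Q).left := h
  rwa [h1, h2] at h'

theorem prop_snd (P : MorphismProperty Scheme.{u}) [P.IsStableUnderBaseChange] (h : P A.hom) :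
    P (snd A Q).left := MorphismProperty.of_isPullback (isPb A Q) h

end snd

section act

variable {G : Over S} [GrpObj G]

theorem lift_one_eq (P : Over S) : (λ_ P).inv ≫ (η[G] ▷ P) = lift (1 : P ⟶ G) (𝟙 P) := by
  apply CartesianMonoidalCategory.hom_ext
  · rw [Category.assoc, whiskerRight_fst, lift_fst, ← Category.assoc, Hom.one_def]
    congr 1
    exact toUnit_unique _ _
  · rw [Category.assoc, whiskerRight_snd, lift_snd, leftUnitor_inv_snd]

end act

section main

variable {G : Over S} [GrpObj G] [IsAffineHom G.hom] [Flat G.hom] [LocallyOfFinitePresentation G.hom]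
  {aX : AlgGrp.Action G (𝟙_ (Over S))}

omit [LocallyOfFinitePresentation G.hom] in
/-- The action extends. -/
theorem exists_act (x : AlgSt.QuotObj Scheme.fppfPrecoverage G aX) {P T : Over S} {i : x.base ⟶ T}
    [IsAffine T.left] (hi : FlatExt i) {κ : x.P ⟶ P} {p : P ⟶ T} (hκ : IsPullback κ x.π p i) [Flat p.left]
    [IsAffine P.left] :
    ∃ a : AlgGrp.Action G P, a.act ≫ p = snd G P ≫ p ∧ x.act.act ≫ κ = (G ◁ κ) ≫ a.act := by
  have hsn : ∀ Q : Over S, IsAffineHom (snd G Q).left := fun Q => prop_snd G Q @IsAffineHom inferInstance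
  have hsf : ∀ Q : Over S, Flat (snd G Q).left := fun Q => prop_snd G Q @Flat inferInstance
  have hcomp : ∀ {Z' Z : Over S} (k : Z' ⟶ Z) {p' : Z' ⟶ x.base} {q : Z ⟶ T}, IsPullback k p' q i →
      IsPullback (G ◁ k) (snd G Z' ≫ p') (snd G Z ≫ q) i := fun k _ _ h =>
    (AlgSt.isPullback_whiskerLeft (G := G) k).paste_vert h
  have hfc : ∀ {Z Y : Over S} (q : Z ⟶ Y), Flat q.left → Flat (snd G Z ≫ q).left := by
    intro Z Y q hq
    haveI := hsf Z
    rw [Over.comp_left]; infer_instance
  have haf : ∀ {Z : Over S}, IsAffine Z.left → IsAffine (G ⊗ Z).left := by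
    intro Z hZ
    haveI := hsn Z
    exact isAffine_of_affineHom (snd G Z)
  have h1 := hcomp κ hκ
  haveI f1 : Flat (snd G P ≫ p).left := hfc p inferInstance
  haveI a1 : IsAffine (G ⊗ P).left := haf inferInstance
  haveI := hi _ _ _ h1 f1 a1
  obtain ⟨u, ⟨hu1, hu2⟩, -⟩ := ext_over (G ◁ κ) p (snd G P ≫ p) (x.act.act ≫ κ) (by
    rw [Category.assoc, hκ.w, reassoc_of% x.cart.w, whiskerLeft_snd_assoc, hκ.w])
  have hone : (η[G] ▷ P) ≫ u = (λ_ P).hom := by
    rw [← cancel_epi (λ_ P).inv, ← Category.assoc, lift_one_eq, Iso.inv_hom_id]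
    refine hom_unique hi hκ (p := p) ?_ ?_
    · rw [Category.assoc, hu2, lift_snd_assoc, Category.id_comp]
    · have e1 : κ ≫ lift (1 : P ⟶ G) (𝟙 P) = lift (1 : x.P ⟶ G) (𝟙 x.P) ≫ (G ◁ κ) := by
        apply CartesianMonoidalCategory.hom_ext
        · simp
        · simp
      have e2 : lift (1 : x.P ⟶ G) (𝟙 x.P) ≫ x.act.act = 𝟙 _ := by
        rw [← lift_one_eq, Category.assoc, x.act.one_act, Iso.inv_hom_id]
      rw [← Category.assoc, e1, Category.assoc, hu1, ← Category.assoc, e2, Category.id_comp, Category.comp_id]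
  have hmul : (μ[G] ▷ P) ≫ u = (α_ G G P).hom ≫ (G ◁ u) ≫ u := by
    have h2 := hcomp _ h1
    haveI f2 := hfc _ f1
    haveI a2 : IsAffine (G ⊗ (G ⊗ P)).left := haf a1
    rw [← cancel_epi (α_ G G P).inv, Iso.inv_hom_id_assoc]
    refine hom_unique hi h2 (p := p) ?_ ?_
    · simp only [Category.assoc]
      rw [hu2, whiskerRight_snd_assoc, whiskerLeft_snd_assoc, hu2]
      simp
    · have e3 : (G ◁ G ◁ κ) ≫ (α_ G G P).inv = (α_ G G x.P).inv ≫ ((G ⊗ G) ◁ κ) := by simp
      have e4 : ((G ⊗ G) ◁ κ) ≫ (μ[G] ▷ P) = (μ[G] ▷ x.P) ≫ (G ◁ κ) := by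
        rw [whisker_exchange]
      calc (G ◁ G ◁ κ) ≫ (α_ G G P).inv ≫ (μ[G] ▷ P) ≫ u
          = (α_ G G x.P).inv ≫ (μ[G] ▷ x.P) ≫ (G ◁ κ) ≫ u := by
            rw [reassoc_of% e3, reassoc_of% e4]
        _ = (α_ G G x.P).inv ≫ ((μ[G] ▷ x.P) ≫ x.act.act) ≫ κ := by rw [hu1]; simp only [Category.assoc]
        _ = (G ◁ x.act.act) ≫ x.act.act ≫ κ := by
            rw [x.act.mul_act]; simp only [Category.assoc, Iso.inv_hom_id_assoc]
        _ = (G ◁ (x.act.act ≫ κ)) ≫ u := by
            rw [MonoidalCategory.whiskerLeft_comp, Category.assoc, hu1]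
        _ = (G ◁ G ◁ κ) ≫ (G ◁ u) ≫ u := by
            rw [← hu1, MonoidalCategory.whiskerLeft_comp, Category.assoc]
  exact ⟨⟨u, hone, hmul⟩, hu2, hu1.symm⟩

omit [LocallyOfFinitePresentation G.hom] in
theorem isPullback_act (x : AlgSt.QuotObj Scheme.fppfPrecoverage G aX) {P T : Over S} {i : x.base ⟶ T}
    [IsAffine T.left] (hi : FlatExt i) {κ : x.P ⟶ P} {p : P ⟶ T} (hκ : IsPullback κ x.π p i) [Flat p.left]
    [IsAffine P.left] {u : G ⊗ P ⟶ P} (hu : u ≫ p = snd G P ≫ p) (hκu : x.act.act ≫ κ = (G ◁ κ) ≫ u) :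
    IsPullback u (snd G P) p p := by
  obtain ⟨W, w1, w2, hW⟩ : ∃ (W : Over S) (w1 : W ⟶ P) (w2 : W ⟶ P), IsPullback w1 w2 p p :=
    ⟨_, _, _, IsPullback.of_hasPullback p p⟩
  have hW' : IsPullback w1.left w2.left p.left p.left := hW.map (Over.forget S)
  haveI : IsAffineHom w2.left := MorphismProperty.of_isPullback hW' inferInstance
  haveI : Flat w2.left := MorphismProperty.of_isPullback hW' inferInstance
  haveI : IsAffine W.left := isAffine_of_affineHom w2
  haveI hf : Flat (w2 ≫ p).left := by rw [Over.comp_left]; infer_instance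
  let kW : G ⊗ x.P ⟶ W := hW.lift (x.act.act ≫ κ) (snd G x.P ≫ κ) (by
    rw [Category.assoc, Category.assoc, hκ.w, ← Category.assoc, x.cart.w, Category.assoc])
  have h1 : IsPullback kW (snd G x.P) w2 κ := by
    refine IsPullback.of_right (h₁₂ := w1) (v₁₃ := p) (h₂₂ := p) ?_ (hW.lift_snd _ _ _) hW
    have h2 := x.cart.paste_horiz hκ
    rw [hW.lift_fst]
    rwa [← hκ.w] at h2
  have h2 := h1.paste_vert hκ
  haveI := hi kW _ _ h2 hf inferInstance
  have h3 : IsPullback (G ◁ κ) (snd G x.P ≫ x.π) (snd G P ≫ p) i :=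
    (AlgSt.isPullback_whiskerLeft (G := G) κ).paste_vert hκ
  haveI : Flat (snd G P).left := prop_snd G P @Flat inferInstance
  haveI : IsAffineHom (snd G P).left := prop_snd G P @IsAffineHom inferInstance
  haveI : IsAffine (G ⊗ P).left := isAffine_of_affineHom (snd G P)
  haveI := hi _ _ _ h3 (by rw [Over.comp_left]; infer_instance) inferInstance
  let m : G ⊗ P ⟶ W := hW.lift u (snd G P) hu
  have hm : (G ◁ κ) ≫ m = kW := by
    apply hW.hom_ext
    · rw [Category.assoc, hW.lift_fst, hW.lift_fst, hκu]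
    · rw [Category.assoc, hW.lift_snd, hW.lift_snd, whiskerLeft_snd]
  haveI : IsIso m.left.appTop := by
    have e : m.left.appTop ≫ (G ◁ κ).left.appTop = kW.left.appTop := by
      rw [← hm, Over.comp_left, Scheme.Hom.comp_appTop]
    haveI : IsIso (m.left.appTop ≫ (G ◁ κ).left.appTop) := by rw [e]; infer_instance
    exact IsIso.of_isIso_comp_right _ (G ◁ κ).left.appTop
  haveI : IsIso m := isIso_of_appTop m
  exact hW.of_iso (asIso m).symm (Iso.refl _) (Iso.refl _) (Iso.refl _)
    (by simp only [Iso.symm_hom, asIso_inv, Iso.refl_hom, Category.comp_id, IsIso.eq_inv_comp]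
        exact hW.lift_fst _ _ _)
    (by simp only [Iso.symm_hom, asIso_inv, Iso.refl_hom, Category.comp_id, IsIso.eq_inv_comp]
        exact hW.lift_snd _ _ _) (by simp) (by simp)

/-- The projection of the extension is flat, surjective and locally of finite presentation. -/
theorem props (x : AlgSt.QuotObj Scheme.fppfPrecoverage G aX) {P T : Over S} {i : x.base ⟶ T}
    [IsOpenImmersion i.left] [QuasiCompact i.left] [IsAffine T.left] (hi : FlatExt i) {κ : x.P ⟶ P} {p : P ⟶ T}
    (hκ : IsPullback κ x.π p i) [IsAffine P.left] [IsIso κ.left.appTop]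
    {T' V' : Over S} (c : T' ⟶ T) [IsAffine T'.left] [Flat c.left] [Surjective c.left]
    {i' : V' ⟶ T'} {c' : V' ⟶ x.base} (hpb : IsPullback c' i' i c)
    (s : V' ⟶ x.P) (hs : s ≫ x.π = c') :
    Flat p.left ∧ Surjective p.left ∧ LocallyOfFinitePresentation p.left := by
  haveI haf : IsAffineHom x.π.left := K750.QuotAff.isAffineHom_quotObj Scheme.fppfPrecoverage_le_fpqcPrecoverage x
  obtain ⟨P', k1, p', hP'⟩ : ∃ (P' : Over S) (k1 : P' ⟶ P) (p' : P' ⟶ T'), IsPullback k1 p' p c :=
    ⟨_, _, _, IsPullback.of_hasPullback p c⟩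
  have hP'' : IsPullback k1.left p'.left p.left c.left := hP'.map (Over.forget S)
  haveI : IsAffineHom p'.left := MorphismProperty.of_isPullback hP'' inferInstance
  haveI : IsAffine P'.left := isAffine_of_affineHom p'
  haveI : Flat k1.left := MorphismProperty.of_isPullback hP''.flip inferInstance
  haveI : Surjective k1.left := MorphismProperty.of_isPullback hP''.flip inferInstance
  have h1 : IsPullback ((G ◁ s) ≫ x.act.act) (snd G V') x.π (s ≫ x.π) := K750.QuotAff.isPullback_of_pt x.act x.cart s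
  rw [hs] at h1
  have h2 := h1.paste_vert hpb
  have e1 : (((G ◁ s) ≫ x.act.act) ≫ κ) ≫ p = (snd G V' ≫ i') ≫ c := by
    rw [Category.assoc, hκ.w]; exact h2.w
  let κ' : G ⊗ V' ⟶ P' := hP'.lift (((G ◁ s) ≫ x.act.act) ≫ κ) (snd G V' ≫ i') e1
  have hκ1 : κ' ≫ k1 = ((G ◁ s) ≫ x.act.act) ≫ κ := hP'.lift_fst _ _ _
  have hκ2 : κ' ≫ p' = snd G V' ≫ i' := hP'.lift_snd _ _ _
  have h3 : IsPullback ((G ◁ s) ≫ x.act.act) κ' κ k1 := by
    refine IsPullback.of_bot (v₂₁ := p') (v₂₂ := p) (h₃₁ := c) ?_ hκ1.symm hP'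
    rw [hκ2, hκ.w]; exact h2
  haveI : CompactSpace x.base.left := QuasiCompact.compactSpace_of_compactSpace i.left
  haveI : QuasiSeparatedSpace x.base.left := quasiSeparatedSpace_of_quasiSeparated i.left
  haveI : CompactSpace x.P.left := QuasiCompact.compactSpace_of_compactSpace x.π.left
  haveI : QuasiSeparatedSpace x.P.left := quasiSeparatedSpace_of_quasiSeparated x.π.left
  have h4 := isPushout_pb h3
  haveI : IsIso κ'.left.appTop := by
    haveI : IsIso (CommRingCat.ofHom (pb κ)) := inferInstanceAs (IsIso κ.left.appTop)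
    exact h4.isIso_inr_of_isIso
  have h5 : IsPullback (G ◁ i') (snd G V' ≫ c') (snd G T' ≫ c) i :=
    (AlgSt.isPullback_whiskerLeft (G := G) i').paste_vert hpb.flip
  haveI : Flat (snd G T').left := prop_snd G T' @Flat inferInstance
  haveI : LocallyOfFinitePresentation (snd G T').left := prop_snd G T' @LocallyOfFinitePresentation inferInstance
  haveI : Surjective (snd G T').left := ⟨fun t => ⟨(lift (1 : T' ⟶ G) (𝟙 T')).left t, by
    have e : (lift (1 : T' ⟶ G) (𝟙 T')).left ≫ (snd G T').left = 𝟙 _ := by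
      rw [← Over.comp_left, lift_snd]; rfl
    rw [← Scheme.Hom.comp_apply, e]; rfl⟩⟩
  haveI : IsAffineHom (snd G T').left := prop_snd G T' @IsAffineHom inferInstance
  haveI : IsAffine (G ⊗ T').left := isAffine_of_affineHom (snd G T')
  haveI := hi _ _ _ h5 (by rw [Over.comp_left]; infer_instance) inferInstance
  obtain ⟨u, ⟨hu1, hu2⟩, -⟩ := ext_over κ' (snd G T') p' (G ◁ i') (by
    rw [whiskerLeft_snd, hκ2])
  haveI : IsIso u.left.appTop := by
    have e : u.left.appTop ≫ κ'.left.appTop = (G ◁ i').left.appTop := by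
      rw [← hu1, Over.comp_left, Scheme.Hom.comp_appTop]
    haveI : IsIso (u.left.appTop ≫ κ'.left.appTop) := by rw [e]; infer_instance
    exact IsIso.of_isIso_comp_right _ κ'.left.appTop
  haveI : IsIso u := isIso_of_appTop u
  haveI : IsIso u.left := inferInstanceAs (IsIso ((Over.forget S).map u))
  have hp' : p'.left = u.left ≫ (snd G T').left := by rw [← hu2]; rfl
  haveI : Flat p'.left := by rw [hp']; infer_instance
  haveI : Surjective p'.left := by rw [hp']; infer_instance
  haveI : LocallyOfFinitePresentation p'.left := by rw [hp']; infer_instance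
  have hc : (@Surjective ⊓ @Flat ⊓ @QuasiCompact : MorphismProperty Scheme.{u}) c.left :=
    ⟨⟨inferInstance, inferInstance⟩, inferInstance⟩
  haveI : Flat (k1.left ≫ p.left) := by rw [hP''.w]; infer_instance
  exact ⟨Groth.Agent.S1128.result k1.left p.left,
    MorphismProperty.of_isPullback_of_descendsAlong hP''.flip hc inferInstance,
    MorphismProperty.of_isPullback_of_descendsAlong hP''.flip hc inferInstance⟩

theorem exists_extension (x : AlgSt.QuotObj Scheme.fppfPrecoverage G aX) {T : Over S} (i : x.base ⟶ T)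
    [IsOpenImmersion i.left] [QuasiCompact i.left] [IsAffine T.left] (hi : FlatExt i)
    {T' V' : Over S} (c : T' ⟶ T) [IsAffine T'.left] [Flat c.left] [Surjective c.left]
    {i' : V' ⟶ T'} {c' : V' ⟶ x.base} (hpb : IsPullback c' i' i c)
    (s : V' ⟶ x.P) (hs : s ≫ x.π = c') :
    ∃ (z : AlgSt.QuotObj Scheme.fppfPrecoverage G aX) (ζ : x ⟶ z),
      (AlgSt.QuotSt Scheme.fppfPrecoverage G aX).p.IsHomLift i ζ := by
  haveI haf : IsAffineHom x.π.left := K750.QuotAff.isAffineHom_quotObj Scheme.fppfPrecoverage_le_fpqcPrecoverage x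
  haveI := isIso_of_flatExt hi
  have hκ := isPullback_kap x.π i
  obtain ⟨h1, h2, h3⟩ := props x hi hκ c hpb s hs
  obtain ⟨a, ha1, ha2⟩ := exists_act x hi hκ
  have h4 := isPullback_act x hi hκ ha1 ha2
  have h5 : NonAbH1.IsLocallyTrivialFor Scheme.fppfPrecoverage (Over.mk (pr (x.π ≫ i)).left : Over T.left) := by
    haveI : Flat (Over.mk (pr (x.π ≫ i)).left : Over T.left).hom := h1
    haveI : Surjective (Over.mk (pr (x.π ≫ i)).left : Over T.left).hom := h2
    haveI : LocallyOfFinitePresentation (Over.mk (pr (x.π ≫ i)).left : Over T.left).hom := h3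
    exact K554.Fpqc2.isLocallyTrivialFor_fppf_of_flat _
  let z : AlgSt.QuotObj Scheme.fppfPrecoverage G aX :=
    ⟨T, aff (x.π ≫ i), a, pr (x.π ≫ i), h4, h5, toUnit _, toUnit_unique _ _⟩
  let ζ : x ⟶ z := { base := i, top := kap (x.π ≫ i), eqv := ha2, cart := hκ, wφ := toUnit_unique _ _ }
  exact ⟨z, ζ, IsHomLift.map (AlgSt.QuotSt Scheme.fppfPrecoverage G aX).p ζ⟩

end main

end K749.ExtTors
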