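import Groth.Agent.Par.K547.HensLift
import Mathlib.AlgebraicGeometry.AlgClosed.Basic
import Mathlib.AlgebraicGeometry.Morphisms.Smooth

/-!
# Sections of smooth surjective morphisms over Henselian local rings with algebraically closed residue field
-/

set_option autoImplicit false
set_option linter.style.haveILetI false

universe u

open CategoryTheory CategoryTheory.Limits AlgebraicGeometry

namespace K749.HensSec

theorem exists_section_field {K : Type u} [Field K] [IsAlgClosed K] {X : Scheme.{u}}
    (f : X ⟶ Spec (CommRingCat.of K)) [LocallyOfFiniteType f] [Nonempty X] : ∃ s, s ≫ f = 𝟙 _ := by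
  haveI : JacobsonSpace X := LocallyOfFiniteType.jacobsonSpace f
  obtain ⟨x, hx⟩ : (closedPoints X).Nonempty := by
    rw [← closure_nonempty_iff, closure_closedPoints]
    exact Set.univ_nonempty
  exact ⟨pointOfClosedPoint f x hx, pointOfClosedPoint_comp f x hx⟩

theorem exists_section {R : Type u} [CommRing R] [HenselianLocalRing R] [IsAlgClosed (IsLocalRing.ResidueField R)]
    {M : Scheme.{u}} (p : M ⟶ Spec (CommRingCat.of R)) [Smooth p] [Surjective p] :
    ∃ a : Spec (CommRingCat.of R) ⟶ M, a ≫ p = 𝟙 _ := by
  let cl := Spec.map (CommRingCat.ofHom (IsLocalRing.residue R))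
  haveI : Nonempty (pullback p cl : Scheme.{u}) := by
    obtain ⟨z, -⟩ := (pullback.snd p cl).surjective (IsLocalRing.closedPoint (IsLocalRing.ResidueField R))
    exact ⟨z⟩
  obtain ⟨s, hs⟩ := exists_section_field (pullback.snd p cl)
  obtain ⟨a, ha, -⟩ := Groth.Agent.K547.HensLift.exists_section p (s ≫ pullback.fst p cl) (by
    rw [Category.assoc, pullback.condition, ← Category.assoc, hs, Category.id_comp])
  exact ⟨a, ha⟩

end K749.HensSec
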