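import Groth.Agent.ThetaS.K749.STSec
import Groth.Agent.ThetaS.K749.ExtTors
import Groth.Agent.ThetaS.K749.CplDvr
import Groth.Agent.ThetaS.K749.HensSec
import Groth.Agent.AlgSt.K744.TorsProp

/-!
# Extension of torsors over the atlas from sections over a complete discrete valuation ring
-/

set_option autoImplicit false
set_option linter.style.haveILetI false
set_option backward.isDefEq.respectTransparency false
set_option backward.isDefEq.respectTransparency.types false

universe u

open CategoryTheory CategoryTheory.Limits MonoidalCategory CartesianMonoidalCategory MonObj GrpObj AlgebraicGeometry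

namespace K749.STMain

open ThetaS K951.Pts K942.Coord K943.QuotOpen K943.QuotAtlas K943.QuotTriv K943.CoverExt K943.Points STGeom SecCalc
  K863.Pair STSec K942.TorsGeom

attribute [local instance] K951.Pts.algΓ

section Flat

variable {S : Scheme.{u}}

theorem flatExt_iso {V' V T : Over S} (e : V' ⟶ V) [IsIso e] {j : V ⟶ T} (hj : FlatExt j) : FlatExt (e ≫ j) := by
  intro Z' Z k p' p h hp hZ
  refine hj k (p' ≫ e) p ?_ hp hZ
  exact h.of_iso (Iso.refl _) (Iso.refl _) (asIso e) (Iso.refl _) (by simp) (by simp) (by simp) (by simp)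

theorem isHomLift_of_iso {𝒳 : BasedCategory (Over S)} {a b : 𝒳.obj} {ζ : a ⟶ b} {V' V T : Over S} (e : V' = V)
    {j : V ⟶ T} (h : 𝒳.p.IsHomLift (eqToHom e ≫ j) ζ) : 𝒳.p.IsHomLift j ζ := by
  subst e
  rwa [eqToHom_refl, Category.id_comp] at h

end Flat

section Hens

theorem henselianLocalRing (C : Type u) [CommRing C] [IsLocalRing C] [IsAdicComplete (IsLocalRing.maximalIdeal C) C] :
    HenselianLocalRing C where
  is_henselian := by
    intro f hf a₀ h₁ h₂
    exact HenselianRing.is_henselian (I := IsLocalRing.maximalIdeal C) f hf a₀ h₁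
      (h₂.map (Ideal.Quotient.mk (IsLocalRing.maximalIdeal C)))

/-- Torsors under smooth groups over a strictly Henselian base have sections. -/
theorem exists_section {S : Scheme.{u}} {G : Over S} [GrpObj G] [Smooth G.hom] {X : Over S} {aX : AlgGrp.Action G X}
    (x : AlgSt.QuotObj Scheme.fppfPrecoverage G aX) {C : Type u} [CommRing C] [HenselianLocalRing C]
    [IsAlgClosed (IsLocalRing.ResidueField C)] {B : Over S} (e : B.left = Spec (CommRingCat.of C)) (b : B ⟶ x.base)
    [IsIso b] : ∃ σ : B ⟶ x.P, σ ≫ x.π = b := by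
  obtain ⟨Bl, _, Bh⟩ := B
  change Bl = _ at e
  subst e
  haveI := K744.TorsProp.smooth_of_torsor x
  haveI := K744.TorsProp.surjective_of_torsor x
  haveI : IsIso b.left := inferInstanceAs (IsIso ((Over.forget S).map b))
  obtain ⟨a, ha⟩ := HensSec.exists_section (x.π.left ≫ inv b.left)
  have ha' : a ≫ x.π.left = b.left := by
    rw [← Category.assoc, IsIso.comp_inv_eq, Category.id_comp] at ha
    exact ha
  refine ⟨Over.homMk a ?_, ?_⟩
  · rw [← Over.w x.π, ← Category.assoc, ha', Over.w b]
  · apply Over.OverMorphism.ext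
    exact ha'

end Hens

section Field

variable {R : Type u} [CommRing R] {C K' : Type u} [CommRing C] [IsDomain C] [IsDiscreteValuationRing C] [Algebra R C]
  [Field K'] [Algebra C K'] [IsFractionRing C K'] [Algebra R K'] [IsScalarTower R C K']

theorem exists_lift_field {π : R} (hπ : Irreducible (algebraMap R C π)) (T : Over (Spec (CommRingCat.of R)))
    (r : T ⟶ CoactBr.sp R C) (hu : IsUnit (algebraMap R Γ(T.left, ⊤) π)) :
    ∃ rK : T ⟶ CoactBr.sp R K', rK ≫ CoactBr.pt (IsScalarTower.toAlgHom R C K') = r := by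
  have hu' : ∀ c : nonZeroDivisors C, IsUnit (fn (B := C) r c) := by
    intro c
    obtain ⟨n, hn⟩ := IsDiscreteValuationRing.associated_pow_irreducible (nonZeroDivisors.ne_zero c.2) hπ
    obtain ⟨w, hw⟩ := hn.symm
    rw [← hw, map_mul, map_pow]
    have h1 : fn (B := C) r (algebraMap R C π) = algebraMap R Γ(T.left, ⊤) π := (fn (B := C) r).commutes π
    rw [h1]
    exact (hu.pow n).mul (w.isUnit.map _)
  let φ : K' →ₐ[R] Γ(T.left, ⊤) := IsLocalization.liftAlgHom (M := nonZeroDivisors C) (f := fn (B := C) r) hu'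
  refine ⟨ofFn φ, ?_⟩
  apply fn_injective (B := C)
  rw [fn_comp_pt, fn_ofFn]
  apply AlgHom.ext
  intro c
  exact IsLocalization.lift_eq (M := nonZeroDivisors C) (S := K') hu' c

end Field

section Ext

variable {R : Type u} [CommRing R] [IsDomain R] {π : R} {S : Scheme.{u}} {h : Spec (CommRingCat.of R) ⟶ S}
  {G : Over S} [GrpObj G] [IsAffineHom G.hom] [Smooth G.hom] {aX : AlgGrp.Action G (𝟙_ (Over S))}
  (F : Bp π h ⥤ᵇ AlgSt.QuotSt Scheme.fppfPrecoverage G aX)
  {C K' : Type u} [CommRing C] [IsDomain C] [IsDiscreteValuationRing C] [Algebra R C]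
  [Field K'] [Algebra C K'] [IsFractionRing C K'] [Algebra R K'] [IsScalarTower R C K']

/-- The value at the open part of the atlas extends to the atlas. -/
theorem exists_ext (hπ0 : π ≠ 0) [Module.FaithfullyFlat R C] [IsAdicComplete (IsLocalRing.maximalIdeal C) C]
    [IsAlgClosed (IsLocalRing.ResidueField C)] (hπ : Irreducible (algebraMap R C π))
    (uK : (Γ((CoactBr.sp R K').left, ⊤))ˣ)
    (huK : (uK : Γ((CoactBr.sp R K').left, ⊤)) = algebraMap R Γ((CoactBr.sp R K').left, ⊤) π)
    (hC : ∀ g : (Over.map h).obj (CoactBr.sp R K') ⟶ G, ∃ (h1 h2 : (Over.map h).obj (CoactBr.sp R C) ⟶ G)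
      (Λ : ∀ T : Over (Spec (CommRingCat.of R)), (Γ(T.left, ⊤))ˣ → ((Over.map h).obj T ⟶ G)), Mult h G Λ ∧
        g = ((Over.map h).map (CoactBr.pt (IsScalarTower.toAlgHom R C K')) ≫ h1) * Λ _ uK *
          ((Over.map h).map (CoactBr.pt (IsScalarTower.toAlgHom R C K')) ≫ h2)) :
    ∃ (z : AlgSt.QuotObj Scheme.fppfPrecoverage G aX) (ζ : F.obj (v0 π h) ⟶ z),
      (AlgSt.QuotSt Scheme.fppfPrecoverage G aX).p.IsHomLift
        ((Over.map h).map (openMap (𝟙 (STSch R π)) (Ust π))) ζ := by
  haveI := henselianLocalRing C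
  let B : Over (Spec (CommRingCat.of R)) := CoactBr.sp R C
  obtain ⟨σs, hσs⟩ := exists_section (F.obj (ob h (pS π B) pS_mem)) (C := C)
    (B := (Bp π h).p.obj (ob h (pS π B) pS_mem)) rfl (bt F _)
  obtain ⟨σt, hσt⟩ := exists_section (F.obj (ob h (pT π B) pT_mem)) (C := C)
    (B := (Bp π h).p.obj (ob h (pT π B) pT_mem)) rfl (bt F _)
  let c : STSch R π ⊗ B ⟶ STSch R π := fst _ _
  obtain ⟨c0, hc0⟩ := exists_restrict (Ust π) (𝟙 (STSch R π)) c
  obtain ⟨s, hs⟩ := exists_sec F (CoactBr.pt (IsScalarTower.toAlgHom R C K')) hσs hσt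
    (fun T r hu => exists_lift_field hπ T r hu) uK huK hC (c ≫ 𝟙 _) (snd _ _) (c0 := c0)
    (hc0.w.trans (congrArg (fun t => openMap (c ≫ 𝟙 _) (Ust π) ≫ t) (Category.comp_id c).symm))
  -- the covering
  have hpb : IsPullback c.left (snd (STSch R π) B).left (STSch R π).hom B.hom := ExtTors.isPb _ _
  have hB1 : Flat B.hom := by
    change Flat (Spec.map (CommRingCat.ofHom (algebraMap R C)))
    rw [HasRingHomProperty.Spec_iff (P := @Flat)]
    exact RingHom.flat_algebraMap_iff.2 inferInstance
  have hB2 : Surjective B.hom := by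
    change Surjective (Spec.map (CommRingCat.ofHom (algebraMap R C)))
    exact ⟨PrimeSpectrum.comap_surjective_of_faithfullyFlat⟩
  haveI : IsAffineHom B.hom := by
    change IsAffineHom (Spec.map (CommRingCat.ofHom (algebraMap R C)))
    infer_instance
  haveI hc1 : Flat c.left := MorphismProperty.of_isPullback hpb.flip hB1
  haveI hc2 : Surjective c.left := MorphismProperty.of_isPullback hpb.flip hB2
  haveI hc3 : IsAffineHom c.left := MorphismProperty.of_isPullback hpb.flip inferInstance
  haveI : IsAffine (STSch R π ⊗ B).left := isAffine_of_isAffineHom c.left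
  haveI : IsAffine ((Over.map h).obj (STSch R π ⊗ B)).left := this
  haveI : IsAffine ((Over.map h).obj (STSch R π)).left := isAffine_st π
  haveI : Flat ((Over.map h).map c).left := hc1
  haveI : Surjective ((Over.map h).map c).left := hc2
  let j := (Over.map h).map (openMap (𝟙 (STSch R π)) (Ust π))
  haveI : Flat (𝟙 (STSch R π) : STSch R π ⟶ STSch R π).left := by
    change Flat (𝟙 (STSch R π).left); infer_instance
  have hj : FlatExt j := flatExt_st hπ0 h (𝟙 _)
  haveI : IsOpenImmersion j.left := by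
    change IsOpenImmersion ((𝟙 (STSch R π) : STSch R π ⟶ STSch R π).left ⁻¹ᵁ Ust π).ι
    infer_instance
  haveI : QuasiCompact j.left := by
    change QuasiCompact ((𝟙 (STSch R π) : STSch R π ⟶ STSch R π).left ⁻¹ᵁ Ust π).ι
    have h0 : IsCompact (((𝟙 (STSch R π) : STSch R π ⟶ STSch R π).left ⁻¹ᵁ Ust π :
        (STSch R π).left.Opens) : Set (STSch R π).left) := by
      rw [preimage_Ust]
      have h1 := (isAffineOpen_top (STSch R π).left).basicOpen (fn (B := STRing R π) (𝟙 (STSch R π)) (sFn R π))
      have h2 := (isAffineOpen_top (STSch R π).left).basicOpen (fn (B := STRing R π) (𝟙 (STSch R π)) (tFn R π))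
      exact h1.isCompact.union h2.isCompact
    haveI : CompactSpace ((𝟙 (STSch R π) : STSch R π ⟶ STSch R π).left ⁻¹ᵁ Ust π) :=
      isCompact_iff_compactSpace.1 h0
    infer_instance
  -- the assembly
  let e := bt F (v0 π h)
  let i : (F.obj (v0 π h)).base ⟶ (Over.map h).obj (STSch R π) := inv e ≫ j
  have hi : FlatExt i := flatExt_iso _ hj
  haveI : IsIso e.left := inferInstanceAs (IsIso ((Over.forget S).map e))
  haveI : IsIso (inv e).left := inferInstanceAs (IsIso ((Over.forget S).map (inv e)))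
  have hil : i.left = (inv e).left ≫ j.left := rfl
  haveI : IsOpenImmersion i.left := by rw [hil]; infer_instance
  haveI : QuasiCompact i.left := by rw [hil]; infer_instance
  have hpb1 : IsPullback ((Over.map h).map c0) ((Over.map h).map (openMap (c ≫ 𝟙 _) (Ust π))) j
      ((Over.map h).map c) := by
    refine IsPullback.of_map (Over.forget S) ?_ ?_
    · rw [← Functor.map_comp, hc0.w, Functor.map_comp]
    · exact hc0.map (Over.forget _)
  have hpb2 : IsPullback ((Over.map h).map c0 ≫ e) ((Over.map h).map (openMap (c ≫ 𝟙 _) (Ust π))) i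
      ((Over.map h).map c) :=
    hpb1.of_iso (Iso.refl _) (asIso e) (Iso.refl _) (Iso.refl _) (by simp) (by simp) (by simp [i]) (by simp)
  obtain ⟨z, ζ, hζ⟩ := ExtTors.exists_extension (F.obj (v0 π h)) i hi ((Over.map h).map c) hpb2 s hs
  refine ⟨z, ζ, isHomLift_of_iso (F.w_obj (v0 π h)) (j := j) ?_⟩
  have he : inv e = eqToHom (F.w_obj (v0 π h)) := inv_eqToHom _
  rw [← he]
  exact hζ

end Ext

end K749.STMain
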