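import Groth.Agent.ThetaS.K749.STMain
import Groth.Agent.ThetaS.K942.AffMain
import Groth.Agent.ThetaS.K943.SelfLift

/-!
# Classifying stacks of groups with Cartan decompositions are S-complete
-/

set_option autoImplicit false
set_option linter.style.haveILetI false
set_option backward.isDefEq.respectTransparency false
set_option backward.isDefEq.respectTransparency.types false

universe u

open CategoryTheory CategoryTheory.Limits MonoidalCategory CartesianMonoidalCategory MonObj GrpObj AlgebraicGeometry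

namespace K749.STCartan

open ThetaS K951.Pts K942.Coord K943.QuotOpen K943.QuotAtlas K943.QuotTriv K943.CoverExt K943.Points STGeom SecCalc
  K863.Pair STSec K942.TorsGeom K942.AffMain K943.SelfLift K943.LocPair

attribute [local instance] K951.Pts.algΓ

section Change

variable {k R : Type u} [CommRing k] [CommRing R] [Algebra k R] {h : Spec (CommRingCat.of R) ⟶ Spec (CommRingCat.of k)}
  (hh : h = Spec.map (CommRingCat.ofHom (algebraMap k R)))
  (D : Type u) [CommRing D] [Algebra R D] [Algebra k D] [IsScalarTower k R D]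

include hh in
theorem change_w : (CoactBr.sp R D).hom ≫ h = (CoactBr.sp k D).hom := by
  subst hh
  change Spec.map (CommRingCat.ofHom (algebraMap R D)) ≫ Spec.map (CommRingCat.ofHom (algebraMap k R)) =
    Spec.map (CommRingCat.ofHom (algebraMap k D))
  rw [← Spec.map_comp, ← CommRingCat.ofHom_comp, ← IsScalarTower.algebraMap_eq]

/-- Affine schemes over the two bases. -/
noncomputable def change : (Over.map h).obj (CoactBr.sp R D) ≅ CoactBr.sp k D :=
  Over.isoMk (Iso.refl _) (by
    change 𝟙 _ ≫ (CoactBr.sp k D).hom = (CoactBr.sp R D).hom ≫ h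
    rw [Category.id_comp, change_w hh])

theorem change_left : (change hh D).hom.left = 𝟙 _ := rfl

variable {D} {E : Type u} [CommRing E] [Algebra R E] [Algebra k E] [IsScalarTower k R E]

theorem change_nat (φ : D →ₐ[R] E) (ψ : D →ₐ[k] E) (e : ψ.toRingHom = φ.toRingHom) :
    (Over.map h).map (CoactBr.pt φ) ≫ (change hh D).hom = (change hh E).hom ≫ CoactBr.pt ψ := by
  apply Over.OverMorphism.ext
  change Spec.map (CommRingCat.ofHom φ.toRingHom) ≫ 𝟙 _ = 𝟙 _ ≫ Spec.map (CommRingCat.ofHom ψ.toRingHom)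
  rw [Category.comp_id, Category.id_comp, e]

theorem fn_change (x : D) : fn (B := D) (change hh D).hom x = fn (B := D) (𝟙 (CoactBr.sp R D)) x := rfl

theorem change_gm (u : Dˣ) (w : (Γ((CoactBr.sp R D).left, ⊤))ˣ)
    (hw : (w : Γ((CoactBr.sp R D).left, ⊤)) = fn (B := D) (𝟙 (CoactBr.sp R D)) u) :
    (change hh D).hom ≫ CoactBr.pt (MonoidAlgebra.lift k D (Multiplicative ℤ)
      ((Units.coeHom D).comp (zpowersHom Dˣ u))) = gm (R := k) (T := (Over.map h).obj (CoactBr.sp R D)) w := by
  apply gm_ext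
  intro n
  have hw' : w = Units.map (fn (B := D) (𝟙 (CoactBr.sp R D))).toRingHom.toMonoidHom u := Units.ext hw
  rw [fn_gm, fn_comp_pt, AlgHom.comp_apply, zPow, MonoidAlgebra.lift_single, one_smul, fn_change]
  subst hw'
  exact congrArg Units.val (map_zpow (Units.map (fn (B := D) (𝟙 (CoactBr.sp R D))).toRingHom.toMonoidHom) u n)

omit [Algebra k R] in
theorem mult_gm {G : Over (Spec (CommRingCat.of k))} [GrpObj G] (lam : ThetaS.Gm k ⟶ G) [IsMonHom lam] :
    Mult h G (fun T w => gm (R := k) (T := (Over.map h).obj T) w ≫ lam) where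
  nat := by
    intro T T' f w
    rw [← Category.assoc, comp_gm]
    rfl
  mul := by
    intro T w w'
    rw [gm_mul, MonObj.mul_comp]

end Change

section Main

variable (k : Type u) [Field k] (A : Type u) [CommRing A] [HopfAlgebra k A]

theorem main (hsm : Smooth (CoactBr.sp k A).hom)
    (hC : ∀ (R : Type u) [CommRing R] [IsDomain R] [IsDiscreteValuationRing R] [Algebra k R]
      (K : Type u) [Field K] [Algebra R K] [IsFractionRing R K] [Algebra k K] [IsScalarTower k R K],
      IsAdicComplete (IsLocalRing.maximalIdeal R) R → IsAlgClosed (IsLocalRing.ResidueField R) →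
      ∀ (ϖ : R), Irreducible ϖ → ∀ (u : Kˣ), (u : K) = algebraMap R K ϖ →
      ∀ g : CoactBr.sp k K ⟶ CoactBr.sp k A,
        ∃ (h₁ h₂ : CoactBr.sp k R ⟶ CoactBr.sp k A) (lam : ThetaS.Gm k ⟶ CoactBr.sp k A), IsMonHom lam ∧
          g = (CoactBr.pt (IsScalarTower.toAlgHom k R K) ≫ h₁) *
              (CoactBr.pt (MonoidAlgebra.lift k K (Multiplicative ℤ) ((Units.coeHom K).comp (zpowersHom Kˣ u))) ≫ lam) *
              (CoactBr.pt (IsScalarTower.toAlgHom k R K) ≫ h₂)) :
    ThetaS.IsSCompleteOver Scheme.fppfPrecoverage (AlgSt.BG Scheme.fppfPrecoverage (CoactBr.sp k A)) := by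
  intro R _ _ _ π hπ h
  let kR : k →+* R := (Spec.preimage h).hom
  letI : Algebra k R := kR.toAlgebra
  have hh : h = Spec.map (CommRingCat.ofHom (algebraMap k R)) := (Spec.map_preimage h).symm
  obtain ⟨C, _, _, _, _, hff, hcpl, hac, hirr⟩ := CplDvr.exists_dvr hπ
  letI : Algebra k C := ((algebraMap R C).comp (algebraMap k R)).toAlgebra
  haveI : IsScalarTower k R C := IsScalarTower.of_algebraMap_eq fun _ => rfl
  obtain ⟨K', _, _, _⟩ : ∃ (K' : Type u) (_ : Field K') (_ : Algebra C K'), IsFractionRing C K' :=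
    ⟨FractionRing C, inferInstance, inferInstance, inferInstance⟩
  letI : Algebra R K' := ((algebraMap C K').comp (algebraMap R C)).toAlgebra
  haveI : IsScalarTower R C K' := IsScalarTower.of_algebraMap_eq fun _ => rfl
  letI : Algebra k K' := ((algebraMap C K').comp (algebraMap k C)).toAlgebra
  haveI : IsScalarTower k C K' := IsScalarTower.of_algebraMap_eq fun _ => rfl
  haveI : IsScalarTower k R K' := IsScalarTower.of_algebraMap_eq fun _ => rfl
  haveI hGa : IsAffineHom (CoactBr.sp k A).hom := by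
    change IsAffineHom (Spec.map (CommRingCat.ofHom (algebraMap k A)))
    infer_instance
  have hu0 : algebraMap C K' (algebraMap R C π) ≠ 0 := by
    rw [Ne, FaithfulSMul.algebraMap_eq_zero_iff]
    exact hirr.ne_zero
  let u : K'ˣ := Units.mk0 _ hu0
  let uK : (Γ((CoactBr.sp R K').left, ⊤))ˣ := Units.map (fn (B := K') (𝟙 (CoactBr.sp R K'))).toRingHom.toMonoidHom u
  have huK1 : (uK : Γ((CoactBr.sp R K').left, ⊤)) = fn (B := K') (𝟙 (CoactBr.sp R K')) u := rfl
  have huK : (uK : Γ((CoactBr.sp R K').left, ⊤)) = algebraMap R Γ((CoactBr.sp R K').left, ⊤) π := by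
    rw [huK1]
    exact (fn (B := K') (𝟙 (CoactBr.sp R K'))).commutes π
  have hC' : ∀ g : (Over.map h).obj (CoactBr.sp R K') ⟶ CoactBr.sp k A,
      ∃ (h1 h2 : (Over.map h).obj (CoactBr.sp R C) ⟶ CoactBr.sp k A)
      (Λ : ∀ T : Over (Spec (CommRingCat.of R)), (Γ(T.left, ⊤))ˣ → ((Over.map h).obj T ⟶ CoactBr.sp k A)),
        Mult h (CoactBr.sp k A) Λ ∧
        g = ((Over.map h).map (CoactBr.pt (IsScalarTower.toAlgHom R C K')) ≫ h1) * Λ _ uK *
          ((Over.map h).map (CoactBr.pt (IsScalarTower.toAlgHom R C K')) ≫ h2) := by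
    intro g
    obtain ⟨h₁, h₂, lam, hlam, hg⟩ := hC C K' hcpl hac _ hirr u rfl ((change hh K').inv ≫ g)
    have hg' : g = (change hh K').hom ≫ (change hh K').inv ≫ g := by rw [Iso.hom_inv_id_assoc]
    refine ⟨(change hh C).hom ≫ h₁, (change hh C).hom ≫ h₂,
      fun T w => gm (R := k) (T := (Over.map h).obj T) w ≫ lam, mult_gm lam, ?_⟩
    rw [hg', hg, comp_mul, comp_mul]
    have e1 : (Over.map h).map (CoactBr.pt (IsScalarTower.toAlgHom R C K')) ≫ (change hh C).hom =
      (change hh K').hom ≫ CoactBr.pt (IsScalarTower.toAlgHom k C K') := change_nat hh _ _ rfl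
    have e2 := change_gm hh u uK huK1
    rw [← Category.assoc, ← Category.assoc, ← Category.assoc, ← Category.assoc, ← Category.assoc, e1, e2]
  have hst : Stk.IsStack (QuotSh.J Scheme.fppfPrecoverage (Spec (CommRingCat.of k)))
      (AlgSt.BG Scheme.fppfPrecoverage (CoactBr.sp k A)) :=
    K750.QuotEff.isStack_quotSt Scheme.fppfPrecoverage_le_fpqcPrecoverage _
  have H : UniqFlat h (Ust π) (FibCat.toSelf (AlgSt.BG Scheme.fppfPrecoverage (CoactBr.sp k A))) := by
    intro Y y hy hY
    haveI : IsAffine ((Over.map h).obj Y).left := hY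
    haveI : IsAffineHom (𝟙_ (Over (Spec (CommRingCat.of k)))).hom := by
      change IsAffineHom (𝟙 (Spec (CommRingCat.of k)))
      infer_instance
    exact uniqAt_quot _ (flatExt_st hπ.ne_zero h y)
  have key : LiftSq.LiftsUniquely (subI (ThetaS.overS h (AlgSt.QuotSt Scheme.fppfPrecoverage (Gm R) (stAction R π)))
      (InU Scheme.fppfPrecoverage (stAction R π) (Ust π)))
      (FibCat.toSelf (AlgSt.BG Scheme.fppfPrecoverage (CoactBr.sp k A))) := by
    intro sq
    refine ⟨?_, uniqLift_quot h (stable_st π) (isPrestack hst) (isPrestack_self _) H sq⟩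
    refine hasLift_quot h (stable_st π) hst (isPrestack_self _) H sq ?_
    obtain ⟨z, ζ, hζ⟩ := STMain.exists_ext sq.top hπ.ne_zero hirr uK huK hC'
    exact exists_LL_self sq (v0 π h) _ (isQTerm h (stable_st π) (𝟙 _)) z ζ hζ
  rw [← missesNode_eq] at key
  exact key

end Main

end K749.STCartan
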