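import Groth.Agent.Ega4late.H542.GlueSup
import Groth.Agent.IsoNat.K863.Pair

/-!
# Gluing morphisms of schemes over a base along two opens
-/

set_option autoImplicit false
set_option linter.style.haveILetI false
set_option backward.isDefEq.respectTransparency false
set_option backward.isDefEq.respectTransparency.types false

universe u

open CategoryTheory CategoryTheory.Limits AlgebraicGeometry

namespace K749.Glue2

open K863.Pair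

theorem exists_glue_sch {X X₁ X₂ X₁₂ Y : Scheme.{u}} {o₁ : X₁ ⟶ X} {o₂ : X₂ ⟶ X} {p₁ : X₁₂ ⟶ X₁} {p₂ : X₁₂ ⟶ X₂}
    [IsOpenImmersion o₁] [IsOpenImmersion o₂] (hcov : ∀ x : X, x ∈ Set.range o₁ ∨ x ∈ Set.range o₂)
    (hpb : IsPullback p₁ p₂ o₁ o₂) (f : X₁ ⟶ Y) (g : X₂ ⟶ Y) (h : p₁ ≫ f = p₂ ≫ g) :
    ∃ k : X ⟶ Y, o₁ ≫ k = f ∧ o₂ ≫ k = g := by
  have h12 : ∀ {Z : Scheme.{u}} (a : Z ⟶ X₁) (b : Z ⟶ X₂), a ≫ o₁ = b ≫ o₂ → a ≫ f = b ≫ g := by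
    intro Z a b hab
    rw [← hpb.lift_fst a b hab, Category.assoc, h, ← Category.assoc, hpb.lift_snd]
  let 𝒰 := Groth.Agent.Ega4late.H542.GlueSup.cov o₁ o₂ hcov
  let φ : ∀ b : 𝒰.I₀, 𝒰.X b ⟶ Y := fun b => WalkingPair.rec (motive := fun b => 𝒰.X b ⟶ Y) f g b
  have hF : ∀ i j, pullback.fst (𝒰.f i) (𝒰.f j) ≫ φ i = pullback.snd _ _ ≫ φ j := by
    rintro (_ | _) (_ | _)
    · have : pullback.fst o₁ o₁ = pullback.snd _ _ := by
        rw [← cancel_mono o₁, pullback.condition]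
      exact congr($this ≫ f)
    · exact h12 _ _ pullback.condition
    · exact (h12 _ _ pullback.condition.symm).symm
    · have : pullback.fst o₂ o₂ = pullback.snd _ _ := by
        rw [← cancel_mono o₂, pullback.condition]
      exact congr($this ≫ g)
  exact ⟨Scheme.Cover.glueMorphisms 𝒰 φ hF, Scheme.Cover.ι_glueMorphisms 𝒰 φ hF .left,
    Scheme.Cover.ι_glueMorphisms 𝒰 φ hF .right⟩

theorem exists_glue {S : Scheme.{u}} {U U₁ U₂ U₁₂ P : Over S} {j₁ : U₁ ⟶ U} {j₂ : U₂ ⟶ U} {p₁ : U₁₂ ⟶ U₁}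
    {p₂ : U₁₂ ⟶ U₂} (h : IsOpenPair j₁ j₂ p₁ p₂) (a₁ : U₁ ⟶ P) (a₂ : U₂ ⟶ P) (e : p₁ ≫ a₁ = p₂ ≫ a₂) :
    ∃ a : U ⟶ P, j₁ ≫ a = a₁ ∧ j₂ ≫ a = a₂ := by
  haveI := h.open₁
  haveI := h.open₂
  have hpb : IsPullback p₁.left p₂.left j₁.left j₂.left := h.pb.map (Over.forget S)
  obtain ⟨k, h1, h2⟩ := exists_glue_sch h.cover hpb a₁.left a₂.left (by
    rw [← Over.comp_left, ← Over.comp_left, e])
  have hk : k ≫ P.hom = U.hom := by
    refine Scheme.Cover.hom_ext (Groth.Agent.Ega4late.H542.GlueSup.cov j₁.left j₂.left h.cover) _ _ ?_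
    rintro (_ | _)
    · change j₁.left ≫ k ≫ P.hom = j₁.left ≫ U.hom
      rw [← Category.assoc, h1, Over.w, Over.w]
    · change j₂.left ≫ k ≫ P.hom = j₂.left ≫ U.hom
      rw [← Category.assoc, h2, Over.w, Over.w]
  exact ⟨Over.homMk k hk, Over.OverMorphism.ext h1, Over.OverMorphism.ext h2⟩

theorem hom_ext {S : Scheme.{u}} {U U₁ U₂ U₁₂ P : Over S} {j₁ : U₁ ⟶ U} {j₂ : U₂ ⟶ U} {p₁ : U₁₂ ⟶ U₁}
    {p₂ : U₁₂ ⟶ U₂} (h : IsOpenPair j₁ j₂ p₁ p₂) {a b : U ⟶ P} (h1 : j₁ ≫ a = j₁ ≫ b) (h2 : j₂ ≫ a = j₂ ≫ b) :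
    a = b := by
  haveI := h.open₁
  haveI := h.open₂
  apply Over.OverMorphism.ext
  refine Scheme.Cover.hom_ext (Groth.Agent.Ega4late.H542.GlueSup.cov j₁.left j₂.left h.cover) _ _ ?_
  rintro (_ | _)
  · exact congrArg CommaMorphism.left h1
  · exact congrArg CommaMorphism.left h2

end K749.Glue2
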