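import Groth.Agent.ThetaS.K943.QuotAtlas

/-!
# Calculus of sections of the torsors which are the values of a functor to a quotient stack
-/

set_option autoImplicit false
set_option linter.style.haveILetI false
set_option backward.isDefEq.respectTransparency false
set_option backward.isDefEq.respectTransparency.types false

universe v w u

open CategoryTheory CategoryTheory.Limits MonoidalCategory CartesianMonoidalCategory MonObj GrpObj AlgebraicGeometry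

namespace K749.SecCalc

open K943.QuotAtlas

variable {S : Scheme.{u}} {G : Over S} [GrpObj G] {X : Over S} {aX : AlgGrp.Action G X} {K : Precoverage Scheme.{u}}
  [K.HasIsos]

section Tors

variable (x : AlgSt.QuotObj K G aX)

omit [K.HasIsos] in
/-- Two points of a torsor over the same point of the base differ by a point of the group. -/
theorem exists_dif {T : Over S} (a b : T ⟶ x.P) (h : a ≫ x.π = b ≫ x.π) : ∃ g : T ⟶ G, sm x.act g a = b := by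
  refine ⟨x.cart.lift b a h.symm ≫ fst G x.P, ?_⟩
  have h1 : lift (x.cart.lift b a h.symm ≫ fst G x.P) a = x.cart.lift b a h.symm := by
    apply CartesianMonoidalCategory.hom_ext
    · rw [lift_fst]
    · rw [lift_snd]; exact (x.cart.lift_snd _ _ _).symm
  rw [sm_def, h1]
  exact x.cart.lift_fst _ _ _

end Tors

variable {ℬ : BasedCategory.{v, w} (Over S)} (F : ℬ ⥤ᵇ AlgSt.QuotSt K G aX)

/-- The identification of the base of the value with the scheme below. -/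
noncomputable def bt (a : ℬ.obj) : ℬ.p.obj a ⟶ (F.obj a).base := eqToHom (F.w_obj a).symm

instance (a : ℬ.obj) : IsIso (bt F a) := by
  unfold bt; infer_instance

omit [K.HasIsos] in
theorem bt_nat {a b : ℬ.obj} (m : a ⟶ b) : ℬ.p.map m ≫ bt F b = bt F a ≫ (F.map m).base := by
  have h := Functor.congr_hom F.w m
  have h' : (F.map m).base = eqToHom (F.w_obj a) ≫ ℬ.p.map m ≫ eqToHom (F.w_obj b).symm := h
  rw [h', bt, bt]
  simp

/-- `τ` is the pullback of the section `σ` along `m`. -/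
structure Pull {a b : ℬ.obj} (m : a ⟶ b) (τ : ℬ.p.obj a ⟶ (F.obj a).P) (σ : ℬ.p.obj b ⟶ (F.obj b).P) : Prop where
  sa : τ ≫ (F.obj a).π = bt F a
  sb : σ ≫ (F.obj b).π = bt F b
  w : τ ≫ (F.map m).top = ℬ.p.map m ≫ σ

variable {F}

omit [K.HasIsos] in
theorem Pull.comp {a b c : ℬ.obj} {m : a ⟶ b} {n : b ⟶ c} {τ : ℬ.p.obj a ⟶ (F.obj a).P} {σ : ℬ.p.obj b ⟶ (F.obj b).P}
    {ρ : ℬ.p.obj c ⟶ (F.obj c).P} (h : Pull F m τ σ) (h' : Pull F n σ ρ) : Pull F (m ≫ n) τ ρ where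
  sa := h.sa
  sb := h'.sb
  w := by
    have e : F.map (m ≫ n) = F.map m ≫ F.map n := F.toFunctor.map_comp _ _
    have e1 : (F.map (m ≫ n)).top = (F.map m).top ≫ (F.map n).top := congrArg (fun t => t.top) e
    rw [e1, ← Category.assoc, h.w, Category.assoc, h'.w, ← Category.assoc, ℬ.p.map_comp]

omit [K.HasIsos] in
theorem Pull.unique {a b : ℬ.obj} {m : a ⟶ b} {τ τ' : ℬ.p.obj a ⟶ (F.obj a).P} {σ : ℬ.p.obj b ⟶ (F.obj b).P}
    (h : Pull F m τ σ) (h' : Pull F m τ' σ) : τ = τ' :=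
  (F.map m).cart.hom_ext (h.w.trans h'.w.symm) (h.sa.trans h'.sa.symm)

theorem exists_pull {a b : ℬ.obj} (m : a ⟶ b) {σ : ℬ.p.obj b ⟶ (F.obj b).P} (h : σ ≫ (F.obj b).π = bt F b) :
    ∃ τ, Pull F m τ σ := by
  refine ⟨(F.map m).cart.lift (ℬ.p.map m ≫ σ) (bt F a) ?_, (F.map m).cart.lift_snd _ _ _, h,
    (F.map m).cart.lift_fst _ _ _⟩
  rw [Category.assoc, h, bt_nat]

theorem Pull.fac {a b c : ℬ.obj} {m : a ⟶ b} {n : b ⟶ c} {τ : ℬ.p.obj a ⟶ (F.obj a).P} {σ : ℬ.p.obj b ⟶ (F.obj b).P}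
    {ρ : ℬ.p.obj c ⟶ (F.obj c).P} (h : Pull F (m ≫ n) τ ρ) (h' : Pull F n σ ρ) : Pull F m τ σ := by
  obtain ⟨τ', h1⟩ := exists_pull m h'.sa
  obtain rfl := (h1.comp h').unique h
  exact h1

theorem Pull.sm {a b : ℬ.obj} {m : a ⟶ b} {τ : ℬ.p.obj a ⟶ (F.obj a).P} {σ : ℬ.p.obj b ⟶ (F.obj b).P}
    (h : Pull F m τ σ) (g : ℬ.p.obj b ⟶ G) : Pull F m (sm (F.obj a).act (ℬ.p.map m ≫ g) τ) (sm (F.obj b).act g σ) where
  sa := by rw [sm_π, h.sa]
  sb := by rw [sm_π, h.sb]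
  w := by
    rw [sm_eqv (a := (F.obj a).act) (a' := (F.obj b).act) (F.map m).eqv, h.w, comp_sm]

/-- Gluing of sections from a decomposition of the transition function. -/
theorem main {os ot oK vs vt vst v0 : ℬ.obj} (js : oK ⟶ os) (jt : oK ⟶ ot) (as : vs ⟶ os) (at' : vt ⟶ ot)
    (aK : vst ⟶ oK) (is : vst ⟶ vs) (it : vst ⟶ vt) (es : vs ⟶ v0) (et : vt ⟶ v0) (e1 : is ≫ es = it ≫ et)
    (e2 : aK ≫ js = is ≫ as) (e3 : aK ≫ jt = it ≫ at') {σs : ℬ.p.obj os ⟶ (F.obj os).P}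
    (hσs : σs ≫ (F.obj os).π = bt F os) {σt : ℬ.p.obj ot ⟶ (F.obj ot).P} (hσt : σt ≫ (F.obj ot).π = bt F ot)
    (hC : ∀ g : ℬ.p.obj oK ⟶ G, ∃ (h1 : ℬ.p.obj ot ⟶ G) (h2 : ℬ.p.obj os ⟶ G) (Λs : ℬ.p.obj vs ⟶ G)
      (Λt : ℬ.p.obj vt ⟶ G) (ΛK : ℬ.p.obj oK ⟶ G), g = (ℬ.p.map jt ≫ h1) * ΛK * (ℬ.p.map js ≫ h2) ∧
        ℬ.p.map aK ≫ ΛK = (ℬ.p.map it ≫ Λt) * (ℬ.p.map is ≫ Λs)) :
    ∃ (As : ℬ.p.obj vs ⟶ (F.obj v0).P) (At : ℬ.p.obj vt ⟶ (F.obj v0).P),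
      As ≫ (F.obj v0).π = ℬ.p.map es ≫ bt F v0 ∧ At ≫ (F.obj v0).π = ℬ.p.map et ≫ bt F v0 ∧
        ℬ.p.map is ≫ As = ℬ.p.map it ≫ At := by
  obtain ⟨τs, hτs⟩ := exists_pull js hσs
  obtain ⟨τt, hτt⟩ := exists_pull jt hσt
  obtain ⟨g, hg⟩ := exists_dif (F.obj oK) τs τt (hτs.sa.trans hτt.sa.symm)
  obtain ⟨h1, h2, Λs, Λt, ΛK, hg', hΛ⟩ := hC g
  -- the corrected sections
  have hs := hτs.sm h2
  have ht := hτt.sm h1⁻¹
  obtain ⟨ρs, hρs⟩ := exists_pull as hs.sb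
  obtain ⟨ρt, hρt⟩ := exists_pull at' ht.sb
  have hρs2 := hρs.sm
  obtain ⟨γs, hγs⟩ := exists_pull is hρs.sa
  obtain ⟨γt, hγt⟩ := exists_pull it hρt.sa
  -- both are obtained from sections over `oK`
  have k1 : Pull F aK γs (sm (F.obj oK).act (ℬ.p.map js ≫ h2) τs) := by
    refine Pull.fac (n := js) ?_ hs
    rw [e2]; exact hγs.comp hρs
  have k2 : Pull F aK γt (sm (F.obj oK).act (ℬ.p.map jt ≫ h1⁻¹) τt) := by
    refine Pull.fac (n := jt) ?_ ht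
    rw [e3]; exact hγt.comp hρt
  have k3 : sm (F.obj oK).act (ℬ.p.map jt ≫ h1⁻¹) τt =
      sm (F.obj oK).act ΛK (sm (F.obj oK).act (ℬ.p.map js ≫ h2) τs) := by
    rw [← hg, hg', ← sm_mul, ← sm_mul, comp_inv]
    congr 1
    group
  rw [k3] at k2
  have k4 : γt = sm (F.obj vst).act (ℬ.p.map aK ≫ ΛK) γs := k2.unique (k1.sm ΛK)
  rw [hΛ, sm_mul] at k4
  have q1 := hγs.sm Λs
  have q2 := hγt.sm Λt⁻¹
  have k5 : sm (F.obj vst).act (ℬ.p.map it ≫ Λt⁻¹) γt = sm (F.obj vst).act (ℬ.p.map is ≫ Λs) γs := by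
    rw [k4, ← sm_mul, comp_inv, inv_mul_cancel, sm_one]
  rw [k5] at q2
  refine ⟨sm (F.obj vs).act Λs ρs ≫ (F.map es).top, sm (F.obj vt).act Λt⁻¹ ρt ≫ (F.map et).top, ?_, ?_, ?_⟩
  · rw [Category.assoc, (F.map es).cart.w, ← Category.assoc, q1.sb, bt_nat]
  · rw [Category.assoc, (F.map et).cart.w, ← Category.assoc, q2.sb, bt_nat]
  · rw [← Category.assoc, ← q1.w, ← Category.assoc, ← q2.w, Category.assoc, Category.assoc]
    have c1 : F.map (is ≫ es) = F.map is ≫ F.map es := F.toFunctor.map_comp _ _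
    have c2 : F.map (it ≫ et) = F.map it ≫ F.map et := F.toFunctor.map_comp _ _
    have c3 : (F.map is).top ≫ (F.map es).top = (F.map it).top ≫ (F.map et).top := by
      have := congrArg (fun t => t.top) (c1.symm.trans ((congrArg F.map e1).trans c2))
      exact this
    rw [c3]

end K749.SecCalc
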