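import Groth.Agent.ThetaS.K943.Points
import Groth.Agent.ThetaS.K749.SecCalc

/-!
# Points of `G_m`, arrows between trivial torsors, and points of `Spec R[s, t]/(st − π)`
-/

set_option autoImplicit false
set_option linter.style.haveILetI false
set_option backward.isDefEq.respectTransparency false
set_option backward.isDefEq.respectTransparency.types false

universe u

open CategoryTheory CategoryTheory.Limits MonoidalCategory CartesianMonoidalCategory MonObj GrpObj AlgebraicGeometry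

namespace K749.STGeom

open ThetaS K951.Pts K942.Coord K943.QuotOpen K943.QuotAtlas K943.QuotTriv

attribute [local instance] K951.Pts.algΓ

section gm

variable {R : Type u} [CommRing R] {T T' : Over (Spec (CommRingCat.of R))}

/-- The point of `G_m` given by a unit. -/
noncomputable def gm (w : (Γ(T.left, ⊤))ˣ) : T ⟶ Gm R :=
  ofFn (B := Lau R) (MonoidAlgebra.lift R _ (Multiplicative ℤ) ((Units.coeHom _).comp (zpowersHom _ w)))

theorem fn_gm (w : (Γ(T.left, ⊤))ˣ) (n : ℤ) :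
    fn (B := Lau R) (gm w) (zPow R n) = ((w ^ n : (Γ(T.left, ⊤))ˣ) : Γ(T.left, ⊤)) := by
  rw [gm, fn_ofFn, zPow, MonoidAlgebra.lift_single, one_smul]
  rfl

theorem gm_ext {l l' : T ⟶ Gm R} (h : ∀ n : ℤ, fn (B := Lau R) l (zPow R n) = fn (B := Lau R) l' (zPow R n)) :
    l = l' := by
  apply fn_injective (B := Lau R)
  refine MonoidAlgebra.algHom_ext (fun m => ?_) (Subsingleton.elim _ _)
  exact h (Multiplicative.toAdd m)

theorem comp_gm (f : T' ⟶ T) (w : (Γ(T.left, ⊤))ˣ) : f ≫ gm w = gm (Units.map f.left.appTop.hom.toMonoidHom w) := by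
  apply gm_ext
  intro n
  rw [fn_comp, fn_gm, fn_gm]
  rw [← map_zpow]
  rfl

theorem fn_mul_zPow (l l' : T ⟶ Gm R) (n : ℤ) : fn (B := Lau R) (l * l') (zPow R n) =
    fn (B := Lau R) l (zPow R n) * fn (B := Lau R) l' (zPow R n) := by
  rw [fn_mul (A := Lau R) l l', AlgHom.comp_apply]
  change Algebra.TensorProduct.lift _ _ _ (CoalgebraStruct.comul (R := R) (zPow R n)) = _
  rw [comul_zPow, Algebra.TensorProduct.lift_tmul]

theorem gm_mul (w w' : (Γ(T.left, ⊤))ˣ) : gm (w * w') = gm w * gm w' := by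
  apply gm_ext
  intro n
  rw [fn_mul_zPow, fn_gm, fn_gm, fn_gm, mul_zpow, Units.val_mul]

theorem gm_one : gm (1 : (Γ(T.left, ⊤))ˣ) = 1 := by
  apply gm_ext
  intro n
  rw [fn_gm, one_zpow, fn_one (A := Lau R), AlgHom.comp_apply]
  have e : Bialgebra.counitAlgHom R (Lau R) (zPow R n) = 1 := counit_zPow R n
  rw [e, map_one]
  rfl

end gm

section uMapG

variable {S : Scheme.{u}} {G : Over S} [GrpObj G] {X : Over S} {aX : AlgGrp.Action G X}
  {K : Precoverage Scheme.{u}} [K.HasIsos]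

theorem sm_comp' {Y Z W : Over S} {y : Y ⟶ X} {z : Z ⟶ X} {w : W ⟶ X} {f : Y ⟶ Z} {g : Y ⟶ G}
    (e : sm aX g (f ≫ z) = y) {f' : Z ⟶ W} {g' : Z ⟶ G} (e' : sm aX g' (f' ≫ w) = z) :
    sm aX (g * (f ≫ g')) ((f ≫ f') ≫ w) = y := by
  rw [sm_mul, Category.assoc, ← comp_sm, e', e]

theorem uMapG_comp {Y Z W : Over S} {y : Y ⟶ X} {z : Z ⟶ X} {w : W ⟶ X} {f : Y ⟶ Z} {g : Y ⟶ G}
    (e : sm aX g (f ≫ z) = y) {f' : Z ⟶ W} {g' : Z ⟶ G} (e' : sm aX g' (f' ≫ w) = z) :
    uMapG (K := K) f g e ≫ uMapG f' g' e' = uMapG (f ≫ f') (g * (f ≫ g')) (sm_comp' e e') := by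
  refine AlgSt.QuotObj.hom_ext rfl ?_
  change (rt g ≫ (G ◁ f)) ≫ (rt g' ≫ (G ◁ f')) = rt (g * (f ≫ g')) ≫ (G ◁ (f ≫ f'))
  apply CartesianMonoidalCategory.hom_ext
  · rw [top_fst, Category.assoc, top_fst, comp_mul, top_fst, ← Category.assoc (rt g ≫ (G ◁ f)), top_snd, comp_mul,
      _root_.mul_assoc, Category.assoc]
  · rw [top_snd, Category.assoc, top_snd, ← Category.assoc (rt g ≫ (G ◁ f)), top_snd, Category.assoc]

theorem uMapG_congr {Y Z : Over S} {y : Y ⟶ X} {z : Z ⟶ X} {f f' : Y ⟶ Z} {g g' : Y ⟶ G}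
    (e : sm aX g (f ≫ z) = y) (e' : sm aX g' (f' ≫ z) = y) (h1 : f = f') (h2 : g = g') :
    uMapG (K := K) f g e = uMapG f' g' e' := by
  subst h1 h2; rfl

end uMapG

section pts

variable {R : Type u} [CommRing R] (π : R)

/-- The point `(1, π)`. -/
noncomputable def pS (T : Over (Spec (CommRingCat.of R))) : T ⟶ STSch R π :=
  ofFn (B := STRing R π) (stPt 1 (algebraMap R _ π) (_root_.one_mul _))

/-- The point `(π, 1)`. -/
noncomputable def pT (T : Over (Spec (CommRingCat.of R))) : T ⟶ STSch R π :=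
  ofFn (B := STRing R π) (stPt (algebraMap R _ π) 1 (_root_.mul_one _))

variable {π} {T T' : Over (Spec (CommRingCat.of R))}

theorem pt_ext {y y' : T ⟶ STSch R π}
    (h1 : fn (B := STRing R π) y (sFn R π) = fn (B := STRing R π) y' (sFn R π))
    (h2 : fn (B := STRing R π) y (tFn R π) = fn (B := STRing R π) y' (tFn R π)) : y = y' := by
  apply fn_injective (B := STRing R π)
  exact stRing_algHom_ext h1 h2

theorem st_mul (y : T ⟶ STSch R π) : fn (B := STRing R π) y (sFn R π) * fn (B := STRing R π) y (tFn R π) =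
    algebraMap R _ π := by
  rw [← map_mul, sFn_mul_tFn, AlgHom.commutes]

theorem pS_s : fn (B := STRing R π) (pS π T) (sFn R π) = 1 := by rw [pS, fn_ofFn, stPt_sFn]
theorem pS_t : fn (B := STRing R π) (pS π T) (tFn R π) = algebraMap R _ π := by rw [pS, fn_ofFn, stPt_tFn]
theorem pT_s : fn (B := STRing R π) (pT π T) (sFn R π) = algebraMap R _ π := by rw [pT, fn_ofFn, stPt_sFn]
theorem pT_t : fn (B := STRing R π) (pT π T) (tFn R π) = 1 := by rw [pT, fn_ofFn, stPt_tFn]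

theorem comp_algebraMap (f : T' ⟶ T) (r : R) :
    f.left.appTop.hom (algebraMap R Γ(T.left, ⊤) r) = algebraMap R Γ(T'.left, ⊤) r := by
  rw [algebraMap_algΓ, algebraMap_algΓ, ← fnS_comp_apply, Over.w f]

theorem comp_pS (f : T' ⟶ T) : f ≫ pS π T = pS π T' := by
  apply pt_ext
  · rw [fn_comp, pS_s, pS_s, map_one]
  · rw [fn_comp, pS_t, pS_t, comp_algebraMap]

theorem comp_pT (f : T' ⟶ T) : f ≫ pT π T = pT π T' := by
  apply pt_ext
  · rw [fn_comp, pT_s, pT_s, comp_algebraMap]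
  · rw [fn_comp, pT_t, pT_t, map_one]

/-- `s · (1, π) = (s, t)`. -/
theorem sm_pS (y : T ⟶ STSch R π) (w : (Γ(T.left, ⊤))ˣ)
    (hw : fn (B := STRing R π) y (sFn R π) = w) : sm (stAction R π) (gm w) (pS π T) = y := by
  apply pt_ext
  · rw [sm_def, (fn_stAct (gm w) (pS π T)).1, fn_gm, zpow_one, pS_s, _root_.mul_one, hw]
  · rw [sm_def, (fn_stAct (gm w) (pS π T)).2, fn_gm, pS_t, ← st_mul y, hw, ← _root_.mul_assoc, ← Units.val_mul,
      zpow_neg, zpow_one, inv_mul_cancel, Units.val_one, _root_.one_mul]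

/-- `t⁻¹ · (π, 1) = (s, t)`. -/
theorem sm_pT (y : T ⟶ STSch R π) (w : (Γ(T.left, ⊤))ˣ)
    (hw : fn (B := STRing R π) y (tFn R π) = w) : sm (stAction R π) (gm w⁻¹) (pT π T) = y := by
  apply pt_ext
  · rw [sm_def, (fn_stAct (gm w⁻¹) (pT π T)).1, fn_gm, zpow_one, pT_s, ← st_mul y, hw,
      _root_.mul_comm (fn (B := STRing R π) y (sFn R π)), ← _root_.mul_assoc, ← Units.val_mul, inv_mul_cancel,
      Units.val_one, _root_.one_mul]
  · rw [sm_def, (fn_stAct (gm w⁻¹) (pT π T)).2, fn_gm, pT_t, _root_.mul_one, hw, zpow_neg, zpow_one, _root_.inv_inv]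

theorem pS_mem : (pS π T).left ⁻¹ᵁ Ust π = ⊤ := by
  rw [preimage_Ust, pS_s, Scheme.basicOpen_of_isUnit _ isUnit_one, top_sup_eq]

theorem pT_mem : (pT π T).left ⁻¹ᵁ Ust π = ⊤ := by
  rw [preimage_Ust, pT_t, Scheme.basicOpen_of_isUnit _ isUnit_one, sup_top_eq]

theorem mem_of_s {y : T ⟶ STSch R π} (h : IsUnit (fn (B := STRing R π) y (sFn R π))) : y.left ⁻¹ᵁ Ust π = ⊤ := by
  rw [preimage_Ust, Scheme.basicOpen_of_isUnit _ h, top_sup_eq]

theorem mem_of_t {y : T ⟶ STSch R π} (h : IsUnit (fn (B := STRing R π) y (tFn R π))) : y.left ⁻¹ᵁ Ust π = ⊤ := by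
  rw [preimage_Ust, Scheme.basicOpen_of_isUnit _ h, sup_top_eq]

end pts

end K749.STGeom
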