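import Groth.Agent.ThetaS.K749.STGeom
import Groth.Agent.ThetaS.K749.Glue2

/-!
# Sections of torsors on the punctured stack over the punctured atlas
-/

set_option autoImplicit false
set_option linter.style.haveILetI false
set_option backward.isDefEq.respectTransparency false
set_option backward.isDefEq.respectTransparency.types false

universe u

open CategoryTheory CategoryTheory.Limits MonoidalCategory CartesianMonoidalCategory MonObj GrpObj AlgebraicGeometry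

namespace K749.STSec

open ThetaS K951.Pts K942.Coord K943.QuotOpen K943.QuotAtlas K943.QuotTriv K943.CoverExt K943.Points STGeom SecCalc
  K863.Pair

attribute [local instance] K951.Pts.algΓ

section Open

variable {S : Scheme.{u}} {X Y Y' : Over S} (U : X.left.Opens) (y : Y ⟶ X) (c : Y' ⟶ Y)

theorem exists_restrict : ∃ c0 : YU (c ≫ y) U ⟶ YU y U, IsPullback c0 (openMap (c ≫ y) U) (openMap y U) c := by
  have h1 := isPullback_morphismRestrict c.left (y.left ⁻¹ᵁ U)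
  let c0 : YU (c ≫ y) U ⟶ YU y U := Over.homMk (c.left ∣_ (y.left ⁻¹ᵁ U)) (by
    change (c.left ∣_ (y.left ⁻¹ᵁ U)) ≫ (y.left ⁻¹ᵁ U).ι ≫ Y.hom = (c.left ⁻¹ᵁ (y.left ⁻¹ᵁ U)).ι ≫ Y'.hom
    rw [← Category.assoc, h1.w, Category.assoc, Over.w c])
  refine ⟨c0, IsPullback.of_map (Over.forget S) ?_ ?_⟩
  · apply Over.OverMorphism.ext
    exact h1.w
  · exact h1

end Open

section Charts

variable {R : Type u} [CommRing R] {π : R} {T : Over (Spec (CommRingCat.of R))} (y : T ⟶ STSch R π)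

/-- The two charts of the punctured part. -/
theorem exists_charts {s' t' : Γ(T.left, ⊤)} (es : fn (B := STRing R π) y (sFn R π) = s')
    (et : fn (B := STRing R π) y (tFn R π) = t') : ∃ (js : chart s' ⟶ YU y (Ust π))
    (jt : chart t' ⟶ YU y (Ust π)) (W : Over (Spec (CommRingCat.of R)))
    (is : W ⟶ chart s') (it : W ⟶ chart t'),
    js ≫ openMap y (Ust π) = inc _ ∧ jt ≫ openMap y (Ust π) = inc _ ∧ IsOpenPair js jt is it := by
  have hU := preimage_Ust π y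
  rw [es, et] at hU
  have hs : T.left.basicOpen (s') ≤ y.left ⁻¹ᵁ Ust π := by
    rw [hU]; exact le_sup_left
  have ht : T.left.basicOpen (t') ≤ y.left ⁻¹ᵁ Ust π := by
    rw [hU]; exact le_sup_right
  let js : chart (s') ⟶ YU y (Ust π) := Over.homMk (T.left.homOfLE hs) (by
    change T.left.homOfLE hs ≫ (y.left ⁻¹ᵁ Ust π).ι ≫ T.hom = (T.left.basicOpen _).ι ≫ T.hom
    rw [← Category.assoc, Scheme.homOfLE_ι])
  let jt : chart (t') ⟶ YU y (Ust π) := Over.homMk (T.left.homOfLE ht) (by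
    change T.left.homOfLE ht ≫ (y.left ⁻¹ᵁ Ust π).ι ≫ T.hom = (T.left.basicOpen _).ι ≫ T.hom
    rw [← Category.assoc, Scheme.homOfLE_ι])
  have e1 : T.left.homOfLE hs ≫ (y.left ⁻¹ᵁ Ust π).ι = (T.left.basicOpen _).ι := Scheme.homOfLE_ι _ _
  have e2 : T.left.homOfLE ht ≫ (y.left ⁻¹ᵁ Ust π).ι = (T.left.basicOpen _).ι := Scheme.homOfLE_ι _ _
  refine ⟨js, jt, pullback js jt, pullback.fst js jt, pullback.snd js jt, ?_, ?_, ?_, ?_, fun x => ?_,
    IsPullback.of_hasPullback js jt⟩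
  · apply Over.OverMorphism.ext
    exact e1
  · apply Over.OverMorphism.ext
    exact e2
  · change IsOpenImmersion (T.left.homOfLE hs); infer_instance
  · change IsOpenImmersion (T.left.homOfLE ht); infer_instance
  · have hx : x.1 ∈ T.left.basicOpen (s') ⊔ T.left.basicOpen (t') := by
      rw [← hU]; exact x.2
    have inj := (y.left ⁻¹ᵁ Ust π).ι.isOpenEmbedding.injective
    rcases hx with hx | hx
    · left
      have hc : ∀ z, (y.left ⁻¹ᵁ Ust π).ι (T.left.homOfLE hs z) = (T.left.basicOpen _).ι z := fun z => by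
        rw [← Scheme.Hom.comp_apply, e1]
      exact ⟨⟨x.1, hx⟩, inj (hc ⟨x.1, hx⟩)⟩
    · right
      have hc : ∀ z, (y.left ⁻¹ᵁ Ust π).ι (T.left.homOfLE ht z) = (T.left.basicOpen _).ι z := fun z => by
        rw [← Scheme.Hom.comp_apply, e2]
      exact ⟨⟨x.1, hx⟩, inj (hc ⟨x.1, hx⟩)⟩

end Charts

section Arrows

variable {R : Type u} [CommRing R] {π : R} {S : Scheme.{u}} (h : Spec (CommRingCat.of R) ⟶ S)

/-- The punctured stack. -/
noncomputable abbrev Bp (π : R) (h : Spec (CommRingCat.of R) ⟶ S) :=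
  sub (ThetaS.overS h (AlgSt.QuotSt Scheme.fppfPrecoverage (Gm R) (stAction R π)))
    (InU Scheme.fppfPrecoverage (stAction R π) (Ust π))

variable {Y Z W : Over (Spec (CommRingCat.of R))}

/-- The object attached to a point. -/
noncomputable def ob (y : Y ⟶ STSch R π) (hy : y.left ⁻¹ᵁ Ust π = ⊤) : (Bp π h).obj :=
  ⟨uObj Scheme.fppfPrecoverage (stAction R π) Y y, (inU_uObj_iff (stable_st π) y).2 hy⟩

variable {h} {y : Y ⟶ STSch R π} {hy : y.left ⁻¹ᵁ Ust π = ⊤} {z : Z ⟶ STSch R π} {hz : z.left ⁻¹ᵁ Ust π = ⊤}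
  {w : W ⟶ STSch R π} {hw : w.left ⁻¹ᵁ Ust π = ⊤}

/-- The arrow attached to a morphism and a point of `G_m`. -/
noncomputable def ar (f : Y ⟶ Z) (g : Y ⟶ Gm R) (e : sm (stAction R π) g (f ≫ z) = y) : ob h y hy ⟶ ob h z hz :=
  ObjectProperty.homMk (uMapG f g e)

theorem ar_comp {f : Y ⟶ Z} {g : Y ⟶ Gm R} (e : sm (stAction R π) g (f ≫ z) = y) {f' : Z ⟶ W} {g' : Z ⟶ Gm R}
    (e' : sm (stAction R π) g' (f' ≫ w) = z) :
    (ar f g e : ob h y hy ⟶ ob h z hz) ≫ (ar f' g' e' : _ ⟶ ob h w hw) =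
      ar (f ≫ f') (g * (f ≫ g')) (sm_comp' e e') := by
  apply ObjectProperty.hom_ext
  exact uMapG_comp e e'

theorem ar_congr {f f' : Y ⟶ Z} {g g' : Y ⟶ Gm R} (e : sm (stAction R π) g (f ≫ z) = y)
    (e' : sm (stAction R π) g' (f' ≫ z) = y) (h1 : f = f') (h2 : g = g') :
    (ar f g e : ob h y hy ⟶ ob h z hz) = ar f' g' e' := by
  subst h1 h2; rfl

theorem p_ar (f : Y ⟶ Z) (g : Y ⟶ Gm R) (e : sm (stAction R π) g (f ≫ z) = y) :
    (Bp π h).p.map (ar f g e : ob h y hy ⟶ ob h z hz) = (Over.map h).map f := rfl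

end Arrows

section Main

variable {R : Type u} [CommRing R] {π : R} {S : Scheme.{u}} {h : Spec (CommRingCat.of R) ⟶ S}
  {G : Over S} [GrpObj G] {X : Over S} {aX : AlgGrp.Action G X}
  (F : Bp π h ⥤ᵇ AlgSt.QuotSt Scheme.fppfPrecoverage G aX)
  {B BK : Over (Spec (CommRingCat.of R))} (κ : BK ⟶ B)

/-- The open part of the atlas. -/
noncomputable abbrev v0 (π : R) (h : Spec (CommRingCat.of R) ⟶ S) : (Bp π h).obj :=
  vObj h (stable_st π) (𝟙 (STSch R π))

/-- Multiplicative natural families of points of `G` attached to units. -/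
structure Mult (h : Spec (CommRingCat.of R) ⟶ S) (G : Over S) [GrpObj G]
    (Λ : ∀ T : Over (Spec (CommRingCat.of R)), (Γ(T.left, ⊤))ˣ → ((Over.map h).obj T ⟶ G)) : Prop where
  nat : ∀ {T T' : Over (Spec (CommRingCat.of R))} (f : T' ⟶ T) (w : (Γ(T.left, ⊤))ˣ),
    (Over.map h).map f ≫ Λ T w = Λ T' (Units.map f.left.appTop.hom.toMonoidHom w)
  mul : ∀ {T : Over (Spec (CommRingCat.of R))} (w w' : (Γ(T.left, ⊤))ˣ), Λ T (w * w') = Λ T w * Λ T w'

/-- The section over the punctured part of the atlas over `B`. -/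
theorem exists_sec
    {σs : (Bp π h).p.obj (ob h (pS π B) pS_mem) ⟶ (F.obj (ob h (pS π B) pS_mem)).P}
    (hσs : σs ≫ (F.obj (ob h (pS π B) pS_mem)).π = bt F _)
    {σt : (Bp π h).p.obj (ob h (pT π B) pT_mem) ⟶ (F.obj (ob h (pT π B) pT_mem)).P}
    (hσt : σt ≫ (F.obj (ob h (pT π B) pT_mem)).π = bt F _)
    (hL : ∀ (T : Over (Spec (CommRingCat.of R))) (r : T ⟶ B), IsUnit (algebraMap R Γ(T.left, ⊤) π) →
      ∃ rK : T ⟶ BK, rK ≫ κ = r)
    (uK : (Γ(BK.left, ⊤))ˣ) (huK : (uK : Γ(BK.left, ⊤)) = algebraMap R Γ(BK.left, ⊤) π)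
    (hC : ∀ g : (Over.map h).obj BK ⟶ G, ∃ (h1 h2 : (Over.map h).obj B ⟶ G)
      (Λ : ∀ T : Over (Spec (CommRingCat.of R)), (Γ(T.left, ⊤))ˣ → ((Over.map h).obj T ⟶ G)), Mult h G Λ ∧
        g = ((Over.map h).map κ ≫ h1) * Λ BK uK * ((Over.map h).map κ ≫ h2))
    {T' : Over (Spec (CommRingCat.of R))} (y : T' ⟶ STSch R π) (r : T' ⟶ B)
    {c0 : YU y (Ust π) ⟶ YU (𝟙 (STSch R π)) (Ust π)}
    (hc0 : c0 ≫ openMap (𝟙 _) (Ust π) = openMap y (Ust π) ≫ y) :
    ∃ s : (Over.map h).obj (YU y (Ust π)) ⟶ (F.obj (v0 π h)).P,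
      s ≫ (F.obj (v0 π h)).π = (Over.map h).map c0 ≫ bt F (v0 π h) := by
  obtain ⟨s', hs'⟩ : ∃ s', fn (B := STRing R π) y (sFn R π) = s' := ⟨_, rfl⟩
  obtain ⟨t', ht'⟩ : ∃ t', fn (B := STRing R π) y (tFn R π) = t' := ⟨_, rfl⟩
  obtain ⟨js, jt, W, is, it, hjs, hjt, hpair⟩ := exists_charts y hs' ht'
  -- the units on the charts
  let us : (Γ((chart s').left, ⊤))ˣ := (isUnit_inc s').unit
  let ut : (Γ((chart t').left, ⊤))ˣ := (isUnit_inc t').unit
  have hus : fn (B := STRing R π) (inc s' ≫ y) (sFn R π) = us := by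
    rw [fn_comp, hs']; rfl
  have hut : fn (B := STRing R π) (inc t' ≫ y) (tFn R π) = ut := by
    rw [fn_comp, ht']; rfl
  have hW : is ≫ inc s' ≫ y = it ≫ inc t' ≫ y := by
    rw [← hjs, ← hjt, Category.assoc, Category.assoc, ← Category.assoc, hpair.pb.w, Category.assoc]
  let yW : W ⟶ STSch R π := is ≫ inc s' ≫ y
  let uWs : (Γ(W.left, ⊤))ˣ := Units.map is.left.appTop.hom.toMonoidHom us
  let uWt : (Γ(W.left, ⊤))ˣ := Units.map it.left.appTop.hom.toMonoidHom ut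
  have hWs : fn (B := STRing R π) yW (sFn R π) = uWs := by
    change fn (B := STRing R π) (is ≫ inc s' ≫ y) (sFn R π) = _
    rw [fn_comp, hus]; rfl
  have hWt : fn (B := STRing R π) yW (tFn R π) = uWt := by
    change fn (B := STRing R π) (is ≫ inc s' ≫ y) (tFn R π) = _
    rw [hW, fn_comp, hut]; rfl
  have hWπ : ((uWs * uWt : (Γ(W.left, ⊤))ˣ) : Γ(W.left, ⊤)) = algebraMap R Γ(W.left, ⊤) π := by
    rw [Units.val_mul, ← hWs, ← hWt, st_mul]
  obtain ⟨rK, hrK⟩ := hL W (is ≫ inc s' ≫ r) (by rw [← hWπ]; exact Units.isUnit _)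
  have hrK2 : rK ≫ κ = it ≫ inc t' ≫ r := by
    rw [hrK, ← hjs, ← hjt, Category.assoc, Category.assoc, ← Category.assoc, hpair.pb.w, Category.assoc]
  have hrKu : Units.map rK.left.appTop.hom.toMonoidHom uK = uWs * uWt := by
    apply Units.ext
    rw [hWπ, Units.coe_map]
    change rK.left.appTop.hom uK = _
    rw [huK, comp_algebraMap]
  -- the objects
  let os : (Bp π h).obj := ob h (pS π B) pS_mem
  let ot : (Bp π h).obj := ob h (pT π B) pT_mem
  let oK : (Bp π h).obj := ob h (pS π BK) pS_mem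
  let vs : (Bp π h).obj := ob h (inc s' ≫ y) (mem_of_s (by rw [hus]; exact us.isUnit))
  let vt : (Bp π h).obj := ob h (inc t' ≫ y) (mem_of_t (by rw [hut]; exact ut.isUnit))
  let vst : (Bp π h).obj := ob h yW (mem_of_s (by rw [hWs]; exact uWs.isUnit))
  -- the arrows
  let ajs : oK ⟶ os := ar κ 1 (by rw [sm_one, comp_pS])
  let ajt : oK ⟶ ot := ar κ (gm uK⁻¹) (by
    rw [comp_pT]
    apply pt_ext
    · rw [sm_def, (fn_stAct (gm uK⁻¹) (pT π BK)).1, fn_gm, zpow_one, pT_s, pS_s, ← huK, ← Units.val_mul,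
        inv_mul_cancel, Units.val_one]
    · rw [sm_def, (fn_stAct (gm uK⁻¹) (pT π BK)).2, fn_gm, pT_t, _root_.mul_one, pS_t, zpow_neg, zpow_one,
        _root_.inv_inv, huK])
  let aas : vs ⟶ os := ar (inc s' ≫ r) (gm us) (by rw [comp_pS]; exact sm_pS _ us hus)
  let aat : vt ⟶ ot := ar (inc t' ≫ r) (gm ut⁻¹) (by rw [comp_pT]; exact sm_pT _ ut hut)
  let aaK : vst ⟶ oK := ar rK (gm uWs) (by rw [comp_pS]; exact sm_pS _ uWs hWs)
  let ais : vst ⟶ vs := ar is 1 (sm_one _ _)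
  let ait : vst ⟶ vt := ar it 1 (by rw [sm_one]; exact hW.symm)
  have hes : (js ≫ c0) ≫ openMap (𝟙 (STSch R π)) (Ust π) ≫ 𝟙 _ = inc s' ≫ y := by
    rw [Category.comp_id, Category.assoc, hc0, ← Category.assoc, hjs]
  have het : (jt ≫ c0) ≫ openMap (𝟙 (STSch R π)) (Ust π) ≫ 𝟙 _ = inc t' ≫ y := by
    rw [Category.comp_id, Category.assoc, hc0, ← Category.assoc, hjt]
  have hv0 : (openMap (𝟙 (STSch R π)) (Ust π) ≫ 𝟙 _).left ⁻¹ᵁ Ust π = ⊤ :=
    (inU_uObj_iff (K := Scheme.fppfPrecoverage) (stable_st π) _).1 (inU_YU (stable_st π) (𝟙 (STSch R π)))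
  let v0' : (Bp π h).obj := ob h (openMap (𝟙 (STSch R π)) (Ust π) ≫ 𝟙 _) hv0
  let aes : vs ⟶ v0' := ar (js ≫ c0) 1 (by rw [sm_one]; exact hes)
  let aet : vt ⟶ v0' := ar (jt ≫ c0) 1 (by rw [sm_one]; exact het)
  have k1 : ais ≫ aes = ait ≫ aet := by
    change ar _ _ _ ≫ ar _ _ _ = ar _ _ _ ≫ ar _ _ _
    rw [ar_comp, ar_comp]
    refine ar_congr _ _ ?_ ?_
    · rw [← Category.assoc, ← Category.assoc, hpair.pb.w]
    · rw [comp_one, comp_one]
  have k2 : aaK ≫ ajs = ais ≫ aas := by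
    change ar _ _ _ ≫ ar _ _ _ = ar _ _ _ ≫ ar _ _ _
    rw [ar_comp, ar_comp]
    refine ar_congr _ _ hrK ?_
    rw [comp_one, _root_.mul_one, _root_.one_mul, comp_gm]
  have k3 : aaK ≫ ajt = ait ≫ aat := by
    change ar _ _ _ ≫ ar _ _ _ = ar _ _ _ ≫ ar _ _ _
    rw [ar_comp, ar_comp]
    refine ar_congr _ _ hrK2 ?_
    rw [_root_.one_mul, comp_gm, comp_gm, map_inv, map_inv, hrKu, ← gm_mul, _root_.mul_inv, mul_inv_cancel_left]
  obtain ⟨As, At, hAs, hAt, hAst⟩ := SecCalc.main (F := F) ajs ajt aas aat aaK ais ait aes aet k1 k2 k3 hσs hσt (by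
    intro g
    obtain ⟨h1, h2, Λ, hΛ, hg⟩ := hC g
    refine ⟨h1, h2, Λ _ us, Λ _ ut, Λ _ uK, hg, ?_⟩
    change (Over.map h).map rK ≫ Λ _ uK = ((Over.map h).map it ≫ Λ _ ut) * ((Over.map h).map is ≫ Λ _ us)
    rw [hΛ.nat, hΛ.nat, hΛ.nat, hrKu, ← hΛ.mul, _root_.mul_comm uWs uWt])
  have hpairS : IsOpenPair ((Over.map h).map js) ((Over.map h).map jt) ((Over.map h).map is) ((Over.map h).map it) := by
    refine ⟨hpair.open₁, hpair.open₂, hpair.cover, IsPullback.of_map (Over.forget S) ?_ ?_⟩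
    · rw [← Functor.map_comp, hpair.pb.w, Functor.map_comp]
    · exact hpair.pb.map (Over.forget _)
  obtain ⟨s, hs1, hs2⟩ := Glue2.exists_glue hpairS As At hAst
  refine ⟨s, Glue2.hom_ext hpairS ?_ ?_⟩
  · rw [← Category.assoc, hs1]
    refine hAs.trans ?_
    change (Over.map h).map (js ≫ c0) ≫ bt F (v0 π h) = _
    rw [Functor.map_comp, Category.assoc]
  · rw [← Category.assoc, hs2]
    refine hAt.trans ?_
    change (Over.map h).map (jt ≫ c0) ≫ bt F (v0 π h) = _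
    rw [Functor.map_comp, Category.assoc]

end Main

end K749.STSec
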